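import Mathlib
import Cfsg.Agent.Lib.SylowNormalInf
import Cfsg.Agent.ZN.ChoiceNse
import Cfsg.Agent.Mrg.Omega.Transv.Basic

section


/-!
# The end of (BT): points and frames (N1, text #17521, helper438)

`Pts Y Ω` : the points `Ω = {M^y}`, `M` the unique maximal subgroup over a Sylow 2-subgroup;
`Fr a T p E F B` : a frame at the Sylow subgroup `T` (point `p`) with (+), `|V / E| = a`.
-/

set_option autoImplicit false
set_option linter.unusedSectionVars false

namespace Cfsg.Agent.Omega.NO1.HE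

open Subgroup
open scoped Pointwise

universe u

section tools

variable {V : Type u} [AddCommGroup V]

theorem add_eq_zero' (h2 : ∀ v : V, v + v = 0) {a b : V} : a + b = 0 ↔ a = b := by
  constructor
  · intro h
    have : a + b + b = b := by rw [h, zero_add]
    rwa [add_assoc, h2, add_zero] at this
  · rintro rfl
    exact h2 a

theorem exists_fn (h2 : ∀ v : V, v + v = 0) (W : AddSubgroup V) {v : V} (hv : v ∉ W) :
    ∃ φ : V →+ ZMod 2, (∀ w ∈ W, φ w = 0) ∧ φ v ≠ 0 := by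
  let i1 : Module (ZMod 2) V := AddCommGroup.zmodModule (n := 2) fun a => by rw [two_nsmul]; exact h2 a
  have hv' : v ∉ AddSubgroup.toZModSubmodule 2 W := hv
  obtain ⟨f, hf, hW⟩ := Submodule.exists_le_ker_of_notMem hv'
  refine ⟨f.toAddMonoidHom, fun w hw => ?_, hf⟩
  have : w ∈ AddSubgroup.toZModSubmodule 2 W := hw
  exact hW this

theorem zmod2 (x : ZMod 2) : x = 0 ∨ x = 1 := by revert x; decide

variable {Y : Type u} [Group Y] [DistribMulAction Y V]

theorem exists_fixed [Finite V] (h2 : ∀ v : V, v + v = 0) {R : Subgroup Y} (hR : IsPGroup 2 R)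
    (W : AddSubgroup V) (hW : ∀ r ∈ R, ∀ w ∈ W, r • w ∈ W) (hne : ∃ w ∈ W, w ≠ 0) :
    ∃ w ∈ W, w ≠ 0 ∧ ∀ r ∈ R, r • w = w := by
  let _ : MulAction R W :=
    { smul := fun r w => ⟨(r : Y) • (w : V), hW r r.2 w w.2⟩
      one_smul := fun w => Subtype.ext (one_smul Y (w : V))
      mul_smul := fun r s w => Subtype.ext (mul_smul (r : Y) (s : Y) (w : V)) }
  have hs : ∀ (r : R) (w : W), ((r • w : W) : V) = (r : Y) • (w : V) := fun _ _ => rfl
  obtain ⟨w, hw, hw0⟩ := hne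
  have h1 : 2 ∣ Nat.card W := by
    have h3 : addOrderOf (⟨w, hw⟩ : W) = 2 := by
      refine addOrderOf_eq_prime ?_ ?_
      · rw [two_nsmul]; exact Subtype.ext (h2 w)
      · exact fun h => hw0 (congrArg Subtype.val h)
    rw [← h3]
    exact addOrderOf_dvd_natCard _
  have : Fact (Nat.Prime 2) := ⟨Nat.prime_two⟩
  obtain ⟨x, hx, hne⟩ := hR.exists_fixed_point_of_prime_dvd_card_of_fixed_point W h1 (a := 0) (by
    intro r
    exact Subtype.ext (smul_zero (r : Y)))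
  refine ⟨x, x.2, fun h => hne (Subtype.ext h.symm), fun r hr => ?_⟩
  have := hx ⟨r, hr⟩
  exact congrArg Subtype.val this

end tools

section pts

variable {Y : Type u} [Group Y]

/-- `T` fixes the point `p`. -/
def At {Ω : Type u} [MulAction Y Ω] (T : Sylow 2 Y) (p : Ω) : Prop := ∀ t ∈ T, t • p = p

/-- The points. -/
structure Pts (Y Ω : Type u) [Group Y] [MulAction Y Ω] : Prop where
  tr : ∀ p q : Ω, ∃ y : Y, y • p = q
  one : ∀ (T : Sylow 2 Y) (p q : Ω), At T p → At T q → p = q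
  ex : ∀ T : Sylow 2 Y, ∃ p : Ω, At T p
  ne : ∀ p : Ω, ∃ q, q ≠ p
  ker : ∀ R : Subgroup Y, IsPGroup 2 R → (∀ r ∈ R, ∀ p : Ω, r • p = p) → R = ⊥

variable {Ω : Type u} [MulAction Y Ω]

theorem mem_smul_sylow {T : Sylow 2 Y} {g y : Y} : y ∈ g • T ↔ g⁻¹ * y * g ∈ T := by
  change y ∈ ((g • T : Sylow 2 Y) : Subgroup Y) ↔ g⁻¹ * y * g ∈ (T : Subgroup Y)
  rw [Sylow.coe_subgroup_smul, Subgroup.mem_pointwise_smul_iff_inv_smul_mem, ← map_inv, MulAut.smul_def,
    MulAut.conj_apply, inv_inv]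

theorem mem_conj {H : Subgroup Y} {g y : Y} : y ∈ MulAut.conj g • H ↔ g⁻¹ * y * g ∈ H := by
  rw [Subgroup.mem_pointwise_smul_iff_inv_smul_mem, ← map_inv, MulAut.smul_def,
    MulAut.conj_apply, inv_inv]

theorem At.smul {T : Sylow 2 Y} {p : Ω} (h : At T p) (g : Y) : At (g • T) (g • p) := by
  intro y hy
  rw [mem_smul_sylow] at hy
  have h1 := h _ hy
  rw [mul_smul, mul_smul, inv_smul_eq_iff] at h1
  exact h1

theorem Pts.exists_sylow [Finite Y] (h : Pts Y Ω) {R : Subgroup Y} (hR : IsPGroup 2 R) {p : Ω}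
    (hp : ∀ r ∈ R, r • p = p) : ∃ T : Sylow 2 Y, R ≤ T ∧ At T p := by
  have : Fact (Nat.Prime 2) := ⟨Nat.prime_two⟩
  obtain ⟨T0⟩ : Nonempty (Sylow 2 Y) := inferInstance
  obtain ⟨q, hq⟩ := h.ex T0
  obtain ⟨y, rfl⟩ := h.tr q p
  have h1 := hq.smul y
  set T1 := y • T0
  set p := y • q
  have h2 : (T1 : Subgroup Y) ≤ MulAction.stabilizer Y p := fun t ht => h1 t ht
  obtain ⟨Q, hQ⟩ := (hR.comap_of_injective _ (MulAction.stabilizer Y p).subtype_injective :
    IsPGroup 2 (R.subgroupOf (MulAction.stabilizer Y p))).exists_le_sylow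
  obtain ⟨s, hs⟩ := MulAction.exists_smul_eq (MulAction.stabilizer Y p) (T1.subtype h2) Q
  refine ⟨(s : Y) • T1, fun r hr => ?_, ?_⟩
  · have h4 : (⟨r, hp r hr⟩ : MulAction.stabilizer Y p) ∈ Q := hQ (Subgroup.mem_subgroupOf.2 hr)
    rw [← hs, mem_smul_sylow] at h4
    change r ∈ (s : Y) • T1
    rw [mem_smul_sylow]
    exact h4
  · have h5 := h1.smul (s : Y)
    have h6 : (s : Y) • p = p := s.2
    rwa [h6] at h5

end pts

section frames

variable {Y : Type u} [Group Y] {V : Type u} [AddCommGroup V] [DistribMulAction Y V]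
  {Ω : Type u} [MulAction Y Ω]

/-- A frame at `T`, `p`, with (+). -/
structure Fr (a : ℕ) (T : Sylow 2 Y) (p : Ω) (E F : AddSubgroup V) (B : Subgroup Y) : Prop where
  at' : At T p
  ind : E.index = a
  BT : B ≤ T
  comm : ∀ b ∈ B, ∀ c ∈ B, b * c = c * b
  sq : ∀ b ∈ B, b * b = 1
  FE : F ≤ E
  VB : ∀ b ∈ B, ∀ v : V, b • v + v ∈ E
  EB : ∀ b ∈ B, ∀ e ∈ E, b • e + e ∈ F
  FB : ∀ b ∈ B, ∀ f ∈ F, b • f = f
  CB : ∀ v : V, (∀ b ∈ B, b • v = v) → v ∈ F
  inj : ∀ w, w ∉ E → ∀ b ∈ B, b • w + w ∈ F → b = 1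
  surj : ∀ w, w ∉ E → ∀ e ∈ E, ∃ b ∈ B, b • w + w + e ∈ F
  ne : ∃ v, v ∉ E
  ne' : ∃ e ∈ E, e ∉ F
  plus : ∀ (T' : Sylow 2 Y) (q : Ω), At T' q → (∃ v ∈ E, v ≠ 0 ∧ ∀ t ∈ T', t • v = v) → q = p

theorem smul_two (h2 : ∀ v : V, v + v = 0) (b : Y) (v : V) : b • v + v + (b • v + v) = 0 := h2 _

theorem Fr.smul {a : ℕ} {T : Sylow 2 Y} {p : Ω} {E F : AddSubgroup V} {B : Subgroup Y}
    (h : Fr a T p E F B) (g : Y) : Fr a (g • T) (g • p) (g • E) (g • F) (MulAut.conj g • B) := by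
  have mE : ∀ {W : AddSubgroup V} {v : V}, v ∈ g • W ↔ g⁻¹ • v ∈ W := fun {W v} =>
    AddSubgroup.mem_pointwise_smul_iff_inv_smul_mem
  have key : ∀ (b : Y) (v : V), g⁻¹ • (b • v + v) = (g⁻¹ * b * g) • (g⁻¹ • v) + g⁻¹ • v := by
    intro b v
    rw [smul_add, mul_smul, mul_smul, smul_inv_smul]
  have back : ∀ (b : Y) (v : V), (MulAut.conj g b) • (g • v) = g • b • v := by
    intro b v
    rw [MulAut.conj_apply, mul_smul, mul_smul, inv_smul_smul]
  have mc : ∀ b ∈ B, MulAut.conj g b ∈ MulAut.conj g • B := fun b hb => by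
    rw [mem_conj, MulAut.conj_apply]
    simpa [mul_assoc] using hb
  refine
    { at' := h.at'.smul g
      ind := ?_
      BT := ?_
      comm := ?_
      sq := ?_
      FE := ?_
      VB := ?_
      EB := ?_
      FB := ?_
      CB := ?_
      inj := ?_
      surj := ?_
      ne := ?_
      ne' := ?_
      plus := ?_ }
  · rw [← h.ind]
    have h1 : g • E = E.map (DistribMulAction.toAddEquiv V g : V →+ V) := rfl
    rw [h1]
    exact AddSubgroup.index_map_equiv E (DistribMulAction.toAddEquiv V g)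
  · intro b hb
    rw [mem_conj] at hb
    change b ∈ g • T
    rw [mem_smul_sylow]
    exact h.BT hb
  · intro b hb c hc
    rw [mem_conj] at hb hc
    have h1 := h.comm _ hb _ hc
    have h3 : g⁻¹ * (b * c) * g = g⁻¹ * (c * b) * g := by
      calc g⁻¹ * (b * c) * g = g⁻¹ * b * g * (g⁻¹ * c * g) := by group
        _ = g⁻¹ * c * g * (g⁻¹ * b * g) := h1
        _ = _ := by group
    exact mul_left_cancel (mul_right_cancel h3)
  · intro b hb
    rw [mem_conj] at hb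
    have h1 := h.sq _ hb
    have h3 : g⁻¹ * (b * b) * g = g⁻¹ * 1 * g := by
      calc g⁻¹ * (b * b) * g = g⁻¹ * b * g * (g⁻¹ * b * g) := by group
        _ = 1 := h1
        _ = _ := by group
    exact mul_left_cancel (mul_right_cancel h3)
  · intro f hf
    rw [mE] at hf ⊢
    exact h.FE hf
  · intro b hb v
    rw [mem_conj] at hb
    rw [mE, key]
    exact h.VB _ hb _
  · intro b hb e he
    rw [mem_conj] at hb
    rw [mE] at he ⊢
    rw [key]
    exact h.EB _ hb _ he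
  · intro b hb f hf
    rw [mem_conj] at hb
    rw [mE] at hf
    have h1 := h.FB _ hb _ hf
    rw [mul_smul, mul_smul, smul_inv_smul] at h1
    exact smul_left_cancel _ h1
  · intro v hv
    rw [mE]
    refine h.CB _ fun b hb => ?_
    have h1 := hv _ (mc b hb)
    rw [MulAut.conj_apply, mul_smul, mul_smul, smul_eq_iff_eq_inv_smul] at h1
    exact h1
  · intro w hw b hb h1
    rw [mem_conj] at hb
    rw [mE] at hw h1
    rw [key] at h1
    have h3 := h.inj _ hw _ hb h1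
    have h4 : g⁻¹ * b * g = g⁻¹ * 1 * g := by rw [h3]; group
    exact mul_left_cancel (mul_right_cancel h4)
  · intro w hw e he
    rw [mE] at hw he
    obtain ⟨b, hb, h1⟩ := h.surj _ hw _ he
    refine ⟨_, mc b hb, ?_⟩
    rw [mE, smul_add, smul_add]
    have h3 : g⁻¹ • (MulAut.conj g) b • w = b • g⁻¹ • w := by
      rw [MulAut.conj_apply, mul_smul, mul_smul, inv_smul_smul]
    rw [h3]
    exact h1
  · obtain ⟨v, hv⟩ := h.ne
    refine ⟨g • v, ?_⟩
    rw [mE, inv_smul_smul]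
    exact hv
  · obtain ⟨e, he, hf⟩ := h.ne'
    refine ⟨g • e, ?_, ?_⟩
    · rw [mE, inv_smul_smul]; exact he
    · rw [mE, inv_smul_smul]; exact hf
  · rintro T' q hq ⟨v, hv, hv0, hfix⟩
    rw [mE] at hv
    have h1 := h.plus (g⁻¹ • T') (g⁻¹ • q) (hq.smul g⁻¹) ⟨g⁻¹ • v, hv, fun h0 => hv0 ?_, fun t ht => ?_⟩
    · rw [← h1, smul_inv_smul]
    · rw [inv_smul_eq_iff, smul_zero] at h0
      exact h0
    · rw [mem_smul_sylow, inv_inv] at ht
      have h3 := hfix _ ht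
      rw [mul_smul, mul_smul, smul_eq_iff_eq_inv_smul] at h3
      exact h3

end frames

end Cfsg.Agent.Omega.NO1.HE

end

section


/-!
# The points of `Y = P / C_P(V)` (N1): `HE.Pts Y (Y ⧸ M)`

`Top1 T M` : `M` is the unique maximal subgroup over the Sylow subgroup `T ≠ 1`, `O₂(Y) = 1`.
-/

set_option autoImplicit false
set_option linter.unusedSectionVars false

namespace Cfsg.Agent.Omega.NO1.FrRep

open Subgroup
open Cfsg.Agent.ZN.ChoiceBase (cj mem_cj cj_mono cj_one cj_cj cj_inv_cj cj_cj_inv cj_le_iff card_cj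
  mem_normalizer_iff_cj cj_eq_of_mem_normalizer mem_normalizer_of_cj_le isPGroup_cj cj_inf cj_normalizer)
open Cfsg.Agent.ZN.ChoiceSit (Syl syl_conj exists_syl)
open scoped Pointwise

universe u

variable {Y : Type u} [Group Y]

/-- `M` is the unique maximal subgroup over `T`. -/
structure Top1 (T : Sylow 2 Y) (M : Subgroup Y) : Prop where
  TM : (T : Subgroup Y) ≤ M
  M_ne : M ≠ ⊤
  max : ∀ X : Subgroup Y, (T : Subgroup Y) ≤ X → X ≠ ⊤ → X ≤ M
  o2 : ∀ N : Subgroup Y, N.Normal → IsPGroup 2 N → N = ⊥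
  T_ne : (T : Subgroup Y) ≠ ⊥

namespace Top1

variable {T : Sylow 2 Y} {M : Subgroup Y} (h : Top1 T M)
include h

theorem syl : Syl (T : Subgroup Y) M := ⟨h.TM, T.isPGroup', fun _ _ hQ hTQ => T.is_maximal' hQ hTQ⟩

theorem exists_m [Finite Y] {Q : Subgroup Y} (hQ : IsPGroup 2 Q) (hQM : Q ≤ M) : ∃ m ∈ M, cj m Q ≤ T := by
  obtain ⟨R, hR, hQR⟩ := exists_syl hQ hQM
  obtain ⟨m, hm, hm'⟩ := syl_conj hR h.syl
  exact ⟨m, hm, by rw [← hm']; exact cj_mono m hQR⟩

/-- 2-subgroups of the kernel on the points are trivial. -/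
theorem core [Finite Y] {Q : Subgroup Y} (hQ : IsPGroup 2 Q) (hQM : Q ≤ M.normalCore) : Q = ⊥ := by
  have hp : Fact (Nat.Prime 2) := ⟨Nat.prime_two⟩
  have hfr := Lib.SylowNormalInf.normalizer_inf_sup_eq_top T M.normalCore
  have hTn : (T : Subgroup Y) ≤ normalizer (((T : Subgroup Y) ⊓ M.normalCore : Subgroup Y) : Set Y) := by
    intro x hx
    rw [mem_normalizer_iff_cj, cj_inf, mem_normalizer_iff_cj.1 (le_normalizer hx)]
    congr 1
    rw [← mem_normalizer_iff_cj, normalizer_eq_top M.normalCore]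
    trivial
  have htop : normalizer (((T : Subgroup Y) ⊓ M.normalCore : Subgroup Y) : Set Y) = ⊤ := by
    by_contra hne
    have h1 := h.max _ hTn hne
    rw [sup_eq_left.2 ((normalCore_le M).trans ?_)] at hfr
    · exact hne hfr
    · exfalso
      apply h.M_ne
      rw [eq_top_iff, ← hfr]
      exact sup_le h1 (normalCore_le M)
  have h1 : (T : Subgroup Y) ⊓ M.normalCore = ⊥ :=
    h.o2 _ (normalizer_eq_top_iff.1 htop) (T.isPGroup'.to_le inf_le_left)
  obtain ⟨m, hm, hm'⟩ := h.exists_m hQ (hQM.trans (normalCore_le M))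
  have h2 : cj m Q ≤ (T : Subgroup Y) ⊓ M.normalCore := by
    refine le_inf hm' ?_
    have h3 : cj m Q ≤ cj m M.normalCore := cj_mono m hQM
    have h4 : m ∈ normalizer (M.normalCore : Set Y) := by rw [normalizer_eq_top M.normalCore]; trivial
    rwa [cj_eq_of_mem_normalizer h4] at h3
  rw [h1, le_bot_iff] at h2
  have h3 := congrArg (cj m⁻¹) h2
  rwa [cj_inv_cj, cj, Subgroup.map_bot] at h3

/-- `M` is self-normalising. -/
theorem norm_le [Finite Y] : normalizer (M : Set Y) ≤ M := by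
  by_cases hne : normalizer (M : Set Y) = ⊤
  · exfalso
    have hn : M.Normal := normalizer_eq_top_iff.1 hne
    apply h.T_ne
    refine h.core T.isPGroup' ?_
    rw [normalCore_eq_self M]
    exact h.TM
  · exact h.max _ (h.TM.trans le_normalizer) hne

/-- a conjugate of `M` over `T` is `M` -/
theorem mem_of_le [Finite Y] {x : Y} (hx : (T : Subgroup Y) ≤ cj x M) : x ∈ M := by
  have h1 : cj x M ≠ ⊤ := by
    intro h2
    apply h.M_ne
    have h3 := congrArg (cj x⁻¹) h2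
    rw [cj_inv_cj] at h3
    rw [h3, eq_top_iff]
    intro y _
    rw [mem_cj]
    trivial
  have h2 := h.max _ hx h1
  apply h.norm_le
  rw [mem_normalizer_iff_cj]
  exact Subgroup.eq_of_le_of_card_ge h2 (card_cj _ _).ge

theorem pts [Finite Y] : HE.Pts Y (Y ⧸ M) where
  tr p q := MulAction.exists_smul_eq Y p q
  one T' p q hp hq := by
    obtain ⟨g, rfl⟩ := MulAction.exists_smul_eq Y T T'
    have key : ∀ x : Y, HE.At (g • T) (x : Y ⧸ M) → g⁻¹ * x ∈ M := by
      intro x hx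
      apply h.mem_of_le
      intro t ht
      rw [mem_cj]
      have h1 := hx (g * t * g⁻¹) (by
        rw [HE.mem_smul_sylow]
        have e : g⁻¹ * (g * t * g⁻¹) * g = t := by group
        rwa [e])
      rw [MulAction.Quotient.smul_coe, smul_eq_mul, eq_comm, QuotientGroup.eq] at h1
      have e : x⁻¹ * (g * t * g⁻¹ * x) = (g⁻¹ * x)⁻¹ * t * (g⁻¹ * x) := by group
      rwa [e] at h1
    induction p using QuotientGroup.induction_on with
    | H x =>
      induction q using QuotientGroup.induction_on with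
      | H y =>
        rw [QuotientGroup.eq]
        have h1 := mul_mem (inv_mem (key x hp)) (key y hq)
        have e : (g⁻¹ * x)⁻¹ * (g⁻¹ * y) = x⁻¹ * y := by group
        rwa [e] at h1
  ex T' := by
    obtain ⟨g, rfl⟩ := MulAction.exists_smul_eq Y T T'
    refine ⟨((g : Y) : Y ⧸ M), fun t ht => ?_⟩
    rw [HE.mem_smul_sylow] at ht
    rw [MulAction.Quotient.smul_coe, smul_eq_mul, eq_comm, QuotientGroup.eq]
    have e : g⁻¹ * (t * g) = g⁻¹ * t * g := by group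
    rw [e]
    exact h.TM ht
  ne p := by
    by_contra hcon
    push Not at hcon
    apply h.M_ne
    rw [eq_top_iff]
    intro x _
    have h1 : ((x : Y) : Y ⧸ M) = ((1 : Y) : Y ⧸ M) := (hcon _).trans (hcon _).symm
    rw [eq_comm, QuotientGroup.eq, inv_one, one_mul] at h1
    exact h1
  ker R hR hfix := by
    refine h.core hR fun r hr x => ?_
    have h1 := hfix r hr ((x⁻¹ : Y) : Y ⧸ M)
    rw [MulAction.Quotient.smul_coe, smul_eq_mul, eq_comm, QuotientGroup.eq, inv_inv] at h1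
    rwa [mul_assoc]

end Top1

end Cfsg.Agent.Omega.NO1.FrRep

end

section


/-!
# Quadratic maps between elementary abelian 2-groups: Gauss sums (N1, text #17521 (2), (4))

`g : S → Q` quadratic with polar map `L`; `S_ψ = ∑ (-1)^ψ(g s)`.

* `gauss_one` : one zero and all polar forms zero or of large rank ⟹ `|S| ≤ |Q|²`, with equality only if no
  polar form vanishes;
* `gauss_two` : `|S| = |Q|²`, all polar forms nondegenerate ⟹ `g` is onto.
-/

set_option autoImplicit false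

namespace Cfsg.Agent.Omega.NO1.HE

open Finset

/-- the sign -/
def sgn (x : ZMod 2) : ℤ := if x = 0 then 1 else -1

theorem sgn_add (x y : ZMod 2) : sgn (x + y) = sgn x * sgn y := by
  revert x y; decide

theorem sgn_sq (x : ZMod 2) : sgn x * sgn x = 1 := by
  revert x; decide

theorem sgn_zero : sgn 0 = 1 := rfl

theorem sgn_le (x : ZMod 2) : sgn x ≤ 1 := by
  revert x; decide

theorem le_sgn (x : ZMod 2) : -1 ≤ sgn x := by
  revert x; decide

theorem sgn_eq {x : ZMod 2} (h : x ≠ 0) : sgn x = -1 := if_neg h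

section sums

variable {A : Type*} [AddCommGroup A] [Fintype A]

theorem sum_sgn_eq_zero (f : A →+ ZMod 2) {a : A} (h : f a ≠ 0) : ∑ x, sgn (f x) = 0 := by
  have h1 : ∑ x, sgn (f (x + a)) = ∑ x, sgn (f x) :=
    Equiv.sum_comp (Equiv.addRight a) (fun x => sgn (f x))
  simp only [map_add, sgn_add, sgn_eq h, mul_neg, mul_one, Finset.sum_neg_distrib] at h1
  omega

theorem sum_sgn_le (q : A → ZMod 2) : ∑ x, sgn (q x) ≤ Fintype.card A := by
  calc ∑ x, sgn (q x) ≤ ∑ _x : A, (1 : ℤ) := Finset.sum_le_sum fun x _ => sgn_le _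
    _ = Fintype.card A := by simp

/-- the square of a Gauss sum -/
theorem gauss_sq (q : A → ZMod 2) (B : A →+ A →+ ZMod 2) (hq : ∀ s t, q (s + t) = q s + q t + B s t)
    (R : AddSubgroup A) (hR : ∀ s, s ∈ R ↔ ∀ t, B s t = 0) :
    (∑ s, sgn (q s)) * (∑ s, sgn (q s)) ≤ Fintype.card A * Nat.card R := by
  classical
  have hs : ∀ s t, B s t = B t s := by
    intro s t
    have h1 := hq s t
    rw [add_comm s t, hq t s, add_comm (q t) (q s)] at h1
    exact (add_left_cancel h1).symm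
  have h1 : (∑ s, sgn (q s)) * (∑ s, sgn (q s)) = ∑ u, sgn (q u) * ∑ s, sgn (B u s) := by
    calc (∑ s, sgn (q s)) * (∑ s, sgn (q s)) = ∑ s, ∑ t, sgn (q s) * sgn (q t) := by
          rw [Finset.sum_mul_sum]
      _ = ∑ s, ∑ u, sgn (q s) * sgn (q (s + u)) := by
          refine Finset.sum_congr rfl fun s _ => ?_
          exact (Equiv.sum_comp (Equiv.addLeft s) (fun t => sgn (q s) * sgn (q t))).symm
      _ = ∑ s, ∑ u, sgn (q u) * sgn (B u s) := by
          refine Finset.sum_congr rfl fun s _ => Finset.sum_congr rfl fun u _ => ?_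
          rw [hq, sgn_add, sgn_add, hs s u]
          calc sgn (q s) * (sgn (q s) * sgn (q u) * sgn (B u s)) =
              (sgn (q s) * sgn (q s)) * (sgn (q u) * sgn (B u s)) := by ring
            _ = _ := by rw [sgn_sq, one_mul]
      _ = ∑ u, ∑ s, sgn (q u) * sgn (B u s) := Finset.sum_comm
      _ = _ := by
          refine Finset.sum_congr rfl fun u _ => ?_
          rw [Finset.mul_sum]
  rw [h1]
  have h2 : ∀ u, ∑ s, sgn (B u s) = if u ∈ R then (Fintype.card A : ℤ) else 0 := by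
    intro u
    by_cases hu : u ∈ R
    · rw [if_pos hu]
      have h3 : ∀ s, sgn (B u s) = 1 := fun s => by rw [(hR u).1 hu s]; rfl
      simp [h3]
    · rw [if_neg hu]
      rw [hR] at hu
      push Not at hu
      obtain ⟨t, ht⟩ := hu
      exact sum_sgn_eq_zero (B u) ht
  have h3 : ∀ u, sgn (q u) * ∑ s, sgn (B u s) ≤ if u ∈ R then (Fintype.card A : ℤ) else 0 := by
    intro u
    rw [h2]
    split_ifs
    · calc sgn (q u) * (Fintype.card A : ℤ) ≤ 1 * (Fintype.card A : ℤ) :=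
            mul_le_mul_of_nonneg_right (sgn_le _) (by positivity)
        _ = _ := one_mul _
    · rw [mul_zero]
  calc ∑ u, sgn (q u) * ∑ s, sgn (B u s) ≤ ∑ u, if u ∈ R then (Fintype.card A : ℤ) else 0 :=
        Finset.sum_le_sum fun u _ => h3 u
    _ = Fintype.card A * Nat.card R := by
        rw [← Finset.sum_filter, Finset.sum_const, nsmul_eq_mul, mul_comm]
        congr 2
        rw [Nat.card_eq_fintype_card, Fintype.card_subtype]

end sums

section dual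

variable {Q : Type*} [AddCommGroup Q]

theorem exists_dual (hQ : ∀ q : Q, q + q = 0) {q : Q} (h : q ≠ 0) : ∃ ψ : Q →+ ZMod 2, ψ q ≠ 0 := by
  letI : Module (ZMod 2) Q := AddCommGroup.zmodModule (fun x => by rw [two_nsmul]; exact hQ x)
  by_contra hcon
  push Not at hcon
  exact h ((Module.forall_dual_apply_eq_zero_iff (ZMod 2) q).1 fun f => hcon f.toAddMonoidHom)

instance finite_dual [Finite Q] : Finite (Q →+ ZMod 2) :=
  Finite.of_injective (fun f => (f : Q → ZMod 2)) DFunLike.coe_injective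

variable [Fintype Q] [Fintype (Q →+ ZMod 2)]

theorem sum_dual (hQ : ∀ q : Q, q + q = 0) {q : Q} (h : q ≠ 0) : ∑ ψ : Q →+ ZMod 2, sgn (ψ q) = 0 := by
  obtain ⟨ψ, hψ⟩ := exists_dual hQ h
  exact sum_sgn_eq_zero (AddMonoidHom.eval q) (a := ψ) hψ

theorem card_dual (hQ : ∀ q : Q, q + q = 0) : Fintype.card (Q →+ ZMod 2) = Fintype.card Q := by
  have h1 : ∑ q : Q, ∑ ψ : Q →+ ZMod 2, sgn (ψ q) = Fintype.card (Q →+ ZMod 2) := by
    rw [Finset.sum_eq_single (0 : Q)]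
    · simp [sgn_zero]
    · intro q _ hq
      exact sum_dual hQ hq
    · intro h; exact absurd (Finset.mem_univ _) h
  have h2 : ∑ q : Q, ∑ ψ : Q →+ ZMod 2, sgn (ψ q) = Fintype.card Q := by
    rw [Finset.sum_comm, Finset.sum_eq_single (0 : Q →+ ZMod 2)]
    · simp [sgn_zero]
    · intro ψ _ hψ
      obtain ⟨q, hq⟩ : ∃ q, ψ q ≠ 0 := by
        by_contra hcon
        push Not at hcon
        exact hψ (AddMonoidHom.ext hcon)
      exact sum_sgn_eq_zero ψ hq
    · intro h; exact absurd (Finset.mem_univ _) h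
  have h3 := h1.symm.trans h2
  exact_mod_cast h3

end dual

section main

variable {S Q : Type*} [AddCommGroup S] [AddCommGroup Q]

/-- counting the solutions of `g s = q₀` -/
theorem count [Fintype S] [Fintype Q] [Fintype (Q →+ ZMod 2)] [DecidableEq Q] (hQ : ∀ q : Q, q + q = 0)
    (g : S → Q) (q₀ : Q) :
    (Fintype.card Q : ℤ) * (Finset.univ.filter fun s => g s = q₀).card =
      ∑ ψ : Q →+ ZMod 2, sgn (ψ q₀) * ∑ s, sgn (ψ (g s)) := by
  have h1 : ∀ s, ∑ ψ : Q →+ ZMod 2, sgn (ψ q₀) * sgn (ψ (g s)) =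
      if g s = q₀ then (Fintype.card Q : ℤ) else 0 := by
    intro s
    have h2 : ∀ ψ : Q →+ ZMod 2, sgn (ψ q₀) * sgn (ψ (g s)) = sgn (ψ (q₀ + g s)) := fun ψ => by
      rw [map_add, sgn_add]
    simp only [h2]
    split_ifs with h
    · rw [h, hQ, ← card_dual hQ]
      simp [sgn_zero]
    · apply sum_dual hQ
      intro h0
      apply h
      have h3 : g s = q₀ + (q₀ + g s) := by rw [← add_assoc, hQ, zero_add]
      rw [h3, h0, add_zero]
  calc (Fintype.card Q : ℤ) * (Finset.univ.filter fun s => g s = q₀).card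
      = ∑ s, if g s = q₀ then (Fintype.card Q : ℤ) else 0 := by
        rw [← Finset.sum_filter, Finset.sum_const, nsmul_eq_mul, mul_comm]
    _ = ∑ s, ∑ ψ : Q →+ ZMod 2, sgn (ψ q₀) * sgn (ψ (g s)) :=
        Finset.sum_congr rfl fun s _ => (h1 s).symm
    _ = ∑ ψ : Q →+ ZMod 2, ∑ s, sgn (ψ q₀) * sgn (ψ (g s)) := Finset.sum_comm
    _ = _ := Finset.sum_congr rfl fun ψ _ => by rw [Finset.mul_sum]

/-- the polar form of `ψ ∘ g` -/
theorem polar (g : S → Q) (L : S →+ S →+ Q) (hg : ∀ s t, g (s + t) = g s + g t + L s t)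
    (ψ : Q →+ ZMod 2) (s t : S) :
    ψ (g (s + t)) = ψ (g s) + ψ (g t) + ((AddMonoidHom.compHom ψ).comp L) s t := by
  rw [hg, map_add, map_add]; rfl

/-- the radical -/
def rad (L : S →+ S →+ Q) (ψ : Q →+ ZMod 2) : AddSubgroup S where
  carrier := {s | ∀ t, ψ (L s t) = 0}
  zero_mem' := fun t => by simp
  add_mem' := by
    intro a b ha hb t
    rw [map_add, AddMonoidHom.add_apply, map_add, ha t, hb t, add_zero]
  neg_mem' := by
    intro a ha t
    rw [map_neg, AddMonoidHom.neg_apply, map_neg, ha t, neg_zero]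

theorem g_zero (g : S → Q) (L : S →+ S →+ Q) (hg : ∀ s t, g (s + t) = g s + g t + L s t) : g 0 = 0 := by
  have h := hg 0 0
  rw [map_zero, add_zero, add_zero] at h
  exact left_eq_add.1 h

theorem gauss_one [Finite S] [Finite Q] (_hS : ∀ s : S, s + s = 0) (hQ : ∀ q : Q, q + q = 0)
    (g : S → Q) (L : S →+ S →+ Q) (hg : ∀ s t, g (s + t) = g s + g t + L s t) (h0 : ∀ s, g s = 0 → s = 0)
    (hL : ∀ ψ : Q →+ ZMod 2, (∀ s t, ψ (L s t) = 0) ∨
      ∀ R : AddSubgroup S, (∀ s, s ∈ R ↔ ∀ t, ψ (L s t) = 0) → Nat.card Q ^ 2 ≤ R.index) :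
    Nat.card S ≤ Nat.card Q ^ 2 ∧
      (Nat.card S = Nat.card Q ^ 2 → ∀ ψ : Q →+ ZMod 2, ψ ≠ 0 → ¬ ∀ s t, ψ (L s t) = 0) := by
  classical
  have := Fintype.ofFinite S
  have := Fintype.ofFinite Q
  have := Fintype.ofFinite (Q →+ ZMod 2)
  rw [Nat.card_eq_fintype_card, Nat.card_eq_fintype_card] at *
  set m : ℤ := (Fintype.card S : ℤ) with hm
  set a : ℤ := (Fintype.card Q : ℤ) with ha
  have hmpos : 0 < m := by rw [hm]; exact_mod_cast Fintype.card_pos
  have hapos : 0 < a := by rw [ha]; exact_mod_cast Fintype.card_pos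
  -- the count
  have h1 := count hQ g 0
  have h2 : (Finset.univ.filter fun s => g s = 0) = {0} := by
    ext s
    simp only [Finset.mem_filter, Finset.mem_univ, true_and, Finset.mem_singleton]
    exact ⟨h0 s, fun h => by rw [h]; exact g_zero g L hg⟩
  rw [h2, Finset.card_singleton] at h1
  simp only [map_zero, sgn_zero, one_mul, Nat.cast_one, mul_one] at h1
  rw [← Finset.add_sum_erase _ _ (Finset.mem_univ (0 : Q →+ ZMod 2))] at h1
  have h3 : ∑ s : S, sgn ((0 : Q →+ ZMod 2) (g s)) = m := by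
    simp [sgn_zero, hm]
  rw [h3] at h1
  -- the values
  have hz : ∀ ψ : Q →+ ZMod 2, (∀ s t, ψ (L s t) = 0) → 0 ≤ ∑ s, sgn (ψ (g s)) := by
    intro ψ h
    let f : S →+ ZMod 2 := AddMonoidHom.mk' (fun s => ψ (g s)) fun s t => by rw [hg, map_add, map_add, h, add_zero]
    by_cases hf : ∃ s, f s ≠ 0
    · obtain ⟨s, hs⟩ := hf
      have h4 := sum_sgn_eq_zero f hs
      exact h4.symm.le
    · push Not at hf
      have h4 : ∀ s, sgn (ψ (g s)) = 1 := fun s => by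
        have : ψ (g s) = 0 := hf s
        rw [this]; rfl
      exact Finset.sum_nonneg fun s _ => by rw [h4]; exact zero_le_one
  have hval : ∀ ψ : Q →+ ZMod 2, -m ≤ a * ∑ s, sgn (ψ (g s)) := by
    intro ψ
    rcases hL ψ with h | h
    · have := mul_nonneg hapos.le (hz ψ h)
      linarith
    · have h4 := h (rad L ψ) (fun s => Iff.rfl)
      have h5 := gauss_sq (fun s => ψ (g s)) ((AddMonoidHom.compHom ψ).comp L) (polar g L hg ψ) (rad L ψ)
        (fun s => Iff.rfl)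
      have h6 : (Nat.card (rad L ψ) : ℤ) * (rad L ψ).index = m := by
        rw [hm, ← Nat.card_eq_fintype_card]
        exact_mod_cast (rad L ψ).card_mul_index
      set G := ∑ s, sgn (ψ (g s)) with hG
      set r : ℤ := (Nat.card (rad L ψ) : ℤ) with hr
      have hr0 : 0 ≤ r := by positivity
      have h7 : a ^ 2 ≤ ((rad L ψ).index : ℤ) := by rw [ha]; exact_mod_cast h4
      have h8 : r * a ^ 2 ≤ m := by
        rw [← h6]
        exact mul_le_mul_of_nonneg_left h7 hr0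
      have h9 : (a * G) ^ 2 ≤ m ^ 2 := by
        calc (a * G) ^ 2 = a ^ 2 * (G * G) := by ring
          _ ≤ a ^ 2 * (m * r) := mul_le_mul_of_nonneg_left h5 (by positivity)
          _ = m * (r * a ^ 2) := by ring
          _ ≤ m * m := mul_le_mul_of_nonneg_left h8 hmpos.le
          _ = m ^ 2 := by ring
      exact (abs_le.1 (abs_le_of_sq_le_sq h9 hmpos.le)).1
  -- the sum over `ψ ≠ 0`
  have hcard : ((Finset.univ.erase (0 : Q →+ ZMod 2)).card : ℤ) = a - 1 := by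
    rw [Finset.card_erase_of_mem (Finset.mem_univ _), Finset.card_univ, card_dual hQ, ha]
    have : 1 ≤ Fintype.card Q := Fintype.card_pos
    push_cast [Nat.cast_sub this]
    rfl
  have h4 : a * a = a * m + ∑ ψ ∈ Finset.univ.erase (0 : Q →+ ZMod 2), a * ∑ s, sgn (ψ (g s)) := by
    rw [← Finset.mul_sum, ← mul_add, ← h1]
  have h5 : (a - 1) * (-m) ≤ ∑ ψ ∈ Finset.univ.erase (0 : Q →+ ZMod 2), a * ∑ s, sgn (ψ (g s)) := by
    calc (a - 1) * (-m) = ∑ _ψ ∈ Finset.univ.erase (0 : Q →+ ZMod 2), (-m) := by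
          rw [Finset.sum_const, nsmul_eq_mul, hcard]
      _ ≤ _ := Finset.sum_le_sum fun ψ _ => hval ψ
  have h6 : m ≤ a ^ 2 := by nlinarith
  refine ⟨by rw [hm, ha] at h6; exact_mod_cast h6, fun he ψ hψ hcon => ?_⟩
  have he' : m = a ^ 2 := by rw [hm, ha]; exact_mod_cast he
  -- one value is `≥ 0`
  have h7 : (a - 1) * (-m) + m ≤ ∑ ψ ∈ Finset.univ.erase (0 : Q →+ ZMod 2), a * ∑ s, sgn (ψ (g s)) := by
    have hmem : ψ ∈ Finset.univ.erase (0 : Q →+ ZMod 2) := Finset.mem_erase.2 ⟨hψ, Finset.mem_univ _⟩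
    rw [← Finset.add_sum_erase _ _ hmem]
    have h8 : ((Finset.univ.erase (0 : Q →+ ZMod 2)).erase ψ).card = a - 2 := by
      rw [Finset.card_erase_of_mem hmem]
      have h9 : 1 ≤ (Finset.univ.erase (0 : Q →+ ZMod 2)).card := Finset.card_pos.2 ⟨ψ, hmem⟩
      push_cast [Nat.cast_sub h9]
      rw [hcard]; ring
    have h9 : (a - 2) * (-m) ≤ ∑ ψ ∈ (Finset.univ.erase (0 : Q →+ ZMod 2)).erase ψ, a * ∑ s, sgn (ψ (g s)) := by
      calc (a - 2) * (-m) = ∑ _ψ ∈ (Finset.univ.erase (0 : Q →+ ZMod 2)).erase ψ, (-m) := by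
            rw [Finset.sum_const, nsmul_eq_mul, h8]
        _ ≤ _ := Finset.sum_le_sum fun ψ _ => hval ψ
    have h10 := mul_nonneg hapos.le (hz ψ hcon)
    nlinarith
  nlinarith

theorem gauss_two [Finite S] [Finite Q] (_hS : ∀ s : S, s + s = 0) (hQ : ∀ q : Q, q + q = 0)
    (g : S → Q) (L : S →+ S →+ Q) (hg : ∀ s t, g (s + t) = g s + g t + L s t)
    (hc : Nat.card S = Nat.card Q ^ 2)
    (hL : ∀ ψ : Q →+ ZMod 2, ψ ≠ 0 → ∀ s, (∀ t, ψ (L s t) = 0) → s = 0) (q : Q) : ∃ s, g s = q := by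
  classical
  have := Fintype.ofFinite S
  have := Fintype.ofFinite Q
  have := Fintype.ofFinite (Q →+ ZMod 2)
  rw [Nat.card_eq_fintype_card, Nat.card_eq_fintype_card] at hc
  set m : ℤ := (Fintype.card S : ℤ) with hm
  set a : ℤ := (Fintype.card Q : ℤ) with ha
  have hapos : 0 < a := by rw [ha]; exact_mod_cast Fintype.card_pos
  have hma : m = a ^ 2 := by rw [hm, ha]; exact_mod_cast hc
  have h1 := count hQ g q
  rw [← Finset.add_sum_erase _ _ (Finset.mem_univ (0 : Q →+ ZMod 2))] at h1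
  have h3 : sgn ((0 : Q →+ ZMod 2) q) * ∑ s : S, sgn ((0 : Q →+ ZMod 2) (g s)) = m := by
    simp [sgn_zero, hm]
  rw [h3] at h1
  have hval : ∀ ψ ∈ Finset.univ.erase (0 : Q →+ ZMod 2), -a ≤ sgn (ψ q) * ∑ s, sgn (ψ (g s)) := by
    intro ψ hψ
    have h5 := gauss_sq (fun s => ψ (g s)) ((AddMonoidHom.compHom ψ).comp L) (polar g L hg ψ) (rad L ψ)
      (fun s => Iff.rfl)
    have h6 : Nat.card (rad L ψ) = 1 := by
      have h7 : rad L ψ = ⊥ := by
        rw [eq_bot_iff]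
        intro s hs
        exact hL ψ (Finset.mem_erase.1 hψ).1 s hs
      rw [h7]
      exact AddSubgroup.card_bot
    rw [h6] at h5
    have h7 : (sgn (ψ q) * ∑ s, sgn (ψ (g s))) ^ 2 ≤ a ^ 2 := by
      calc (sgn (ψ q) * ∑ s, sgn (ψ (g s))) ^ 2
          = (sgn (ψ q) * sgn (ψ q)) * ((∑ s, sgn (ψ (g s))) * ∑ s, sgn (ψ (g s))) := by ring
        _ ≤ a ^ 2 := by
          rw [sgn_sq, one_mul, ← hma]
          simpa using h5
    exact (abs_le.1 (abs_le_of_sq_le_sq h7 hapos.le)).1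
  have hcard : ((Finset.univ.erase (0 : Q →+ ZMod 2)).card : ℤ) = a - 1 := by
    rw [Finset.card_erase_of_mem (Finset.mem_univ _), Finset.card_univ, card_dual hQ, ha]
    have : 1 ≤ Fintype.card Q := Fintype.card_pos
    push_cast [Nat.cast_sub this]
    rfl
  have h4 : (a - 1) * (-a) ≤ ∑ ψ ∈ Finset.univ.erase (0 : Q →+ ZMod 2), sgn (ψ q) * ∑ s, sgn (ψ (g s)) := by
    calc (a - 1) * (-a) = ∑ _ψ ∈ Finset.univ.erase (0 : Q →+ ZMod 2), (-a) := by
          rw [Finset.sum_const, nsmul_eq_mul, hcard]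
      _ ≤ _ := Finset.sum_le_sum hval
  have h5 : 0 < a * (Finset.univ.filter fun s => g s = q).card := by
    rw [h1, hma]
    nlinarith
  have h6 : 0 < (Finset.univ.filter fun s => g s = q).card := by
    by_contra h7
    have h8 : (Finset.univ.filter fun s => g s = q).card = 0 := by omega
    rw [h8] at h5
    simp at h5
  obtain ⟨s, hs⟩ := Finset.card_pos.1 h6
  exact ⟨s, (Finset.mem_filter.1 hs).2⟩

end main

end Cfsg.Agent.Omega.NO1.HE

end

section


/-!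
# The end of (BT): (1)-(4) of #17521 (N1, helper438)
-/

set_option autoImplicit false
set_option linter.unusedSectionVars false

namespace Cfsg.Agent.Omega.NO1.HE

open Subgroup
open scoped Pointwise

universe u

section AB

variable {Y : Type u} [Group Y]

/-- `B` additively -/
def AB (B : Subgroup Y) (_ : ∀ b ∈ B, ∀ c ∈ B, b * c = c * b) : Type u := Additive B

variable {B : Subgroup Y} {hc : ∀ b ∈ B, ∀ c ∈ B, b * c = c * b}

instance : AddCommGroup (AB B hc) :=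
  { (inferInstance : AddGroup (Additive B)) with
    add_comm := fun a b => congrArg Additive.ofMul (Subtype.ext (hc _ (a.toMul : B).2 _ (b.toMul : B).2)) }

instance [Finite Y] : Finite (AB B hc) := inferInstanceAs (Finite B)

/-- the element of `Y` -/
def AB.v (s : AB B hc) : Y := ((Additive.toMul s : B) : Y)

def AB.mk (b : Y) (hb : b ∈ B) : AB B hc := Additive.ofMul (⟨b, hb⟩ : B)

theorem AB.v_mem (s : AB B hc) : s.v ∈ B := (Additive.toMul s : B).2

@[simp] theorem AB.v_mk (b : Y) (hb : b ∈ B) : (AB.mk b hb : AB B hc).v = b := rfl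

theorem AB.v_add (s t : AB B hc) : (s + t).v = s.v * t.v := rfl

theorem AB.v_zero : (0 : AB B hc).v = 1 := rfl

theorem AB.ext {s t : AB B hc} (h : s.v = t.v) : s = t := by
  have : (Additive.toMul s : B) = Additive.toMul t := Subtype.ext h
  exact congrArg Additive.ofMul this

theorem AB.two (h2 : ∀ b ∈ B, b * b = 1) (s : AB B hc) : s + s = 0 :=
  AB.ext (h2 _ s.v_mem)

theorem AB.card : Nat.card (AB B hc) = Nat.card B := rfl

end AB

section frames

variable {Y : Type u} [Group Y] {V : Type u} [AddCommGroup V] [DistribMulAction Y V]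
  {Ω : Type u} [MulAction Y Ω]

/-- `v ↦ [v, b]` -/
def dl (b : Y) : V →+ V :=
  AddMonoidHom.mk' (fun v => b • v + v) (fun v w => by
    rw [smul_add]; abel)

theorem dl_apply (b : Y) (v : V) : dl b v = b • v + v := rfl

theorem dl_one (h2 : ∀ v : V, v + v = 0) (v : V) : dl (1 : Y) v = 0 := by
  rw [dl_apply, one_smul, h2]

theorem dl_eq_zero (h2 : ∀ v : V, v + v = 0) {b : Y} {v : V} : dl b v = 0 ↔ b • v = v :=
  add_eq_zero' h2

theorem dl_comm {b c : Y} (h : b * c = c * b) (v : V) : dl b (dl c v) = dl c (dl b v) := by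
  simp only [dl_apply, smul_add]
  rw [← mul_smul, ← mul_smul, h]
  abel

theorem dl_mul (h2 : ∀ v : V, v + v = 0) (b c : Y) (v : V) :
    dl (b * c) v = dl b v + dl c v + dl b (dl c v) := by
  simp only [dl_apply, smul_add, mul_smul]
  have h3 := h2 v
  have h4 := h2 (b • v)
  have h5 := h2 (c • v)
  calc b • c • v + v = b • c • v + v + ((b • v + b • v) + (c • v + c • v) + (v + v)) := by
        rw [h3, h4, h5]; abel
    _ = _ := by abel

theorem dl_self (h2 : ∀ v : V, v + v = 0) {b : Y} (hb : b * b = 1) (v : V) : dl b (dl b v) = 0 := by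
  have h1 := dl_mul h2 b b v
  rw [hb, dl_one h2, h2, zero_add] at h1
  exact h1.symm

theorem smul_eq (h2 : ∀ v : V, v + v = 0) (b : Y) (v : V) : b • v = v + dl b v := by
  rw [dl_apply, add_comm (b • v) v, ← add_assoc, h2, zero_add]

namespace Fr

variable {a : ℕ} {T : Sylow 2 Y} {p : Ω} {E F : AddSubgroup V} {B : Subgroup Y}

theorem dlE (h : Fr a T p E F B) {b : Y} (hb : b ∈ B) (v : V) : dl b v ∈ E := h.VB b hb v

theorem dlF (h : Fr a T p E F B) {b : Y} (hb : b ∈ B) {e : V} (he : e ∈ E) : dl b e ∈ F := h.EB b hb e he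

theorem dl0 (h2 : ∀ v : V, v + v = 0) (h : Fr a T p E F B) {b : Y} (hb : b ∈ B) {f : V} (hf : f ∈ F) :
    dl b f = 0 := (dl_eq_zero h2).2 (h.FB b hb f hf)

/-- `[v, s, t]` -/
noncomputable def Lam (h2 : ∀ v : V, v + v = 0) (h : Fr a T p E F B) :
    V →+ AB B h.comm →+ AB B h.comm →+ V :=
  AddMonoidHom.mk' (fun v =>
    AddMonoidHom.mk' (fun s =>
      AddMonoidHom.mk' (fun t => dl t.v (dl s.v v)) (by
        intro t t'
        rw [AB.v_add, dl_mul h2, h.dl0 h2 t.v_mem (h.dlF t'.v_mem (h.dlE s.v_mem v)), add_zero]))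
      (by
        intro s s'
        ext t
        change dl t.v (dl (s + s').v v) = dl t.v (dl s.v v) + dl t.v (dl s'.v v)
        rw [AB.v_add, dl_mul h2, map_add, map_add, h.dl0 h2 t.v_mem (h.dlF s.v_mem (h.dlE s'.v_mem v)),
          add_zero]))
    (by
      intro v w
      ext s t
      change dl t.v (dl s.v (v + w)) = dl t.v (dl s.v v) + dl t.v (dl s.v w)
      rw [map_add, map_add])

theorem Lam_apply (h2 : ∀ v : V, v + v = 0) (h : Fr a T p E F B) (v : V) (s t : AB B h.comm) :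
    h.Lam h2 v s t = dl t.v (dl s.v v) := rfl

theorem Lam_symm (h2 : ∀ v : V, v + v = 0) (h : Fr a T p E F B) (v : V) (s t : AB B h.comm) :
    h.Lam h2 v s t = h.Lam h2 v t s :=
  dl_comm (h.comm _ t.v_mem _ s.v_mem) v

theorem Lam_self (h2 : ∀ v : V, v + v = 0) (h : Fr a T p E F B) (v : V) (s : AB B h.comm) :
    h.Lam h2 v s s = 0 :=
  dl_self h2 (h.sq _ s.v_mem) v

theorem Lam_E (h2 : ∀ v : V, v + v = 0) (h : Fr a T p E F B) {e : V} (he : e ∈ E) (s t : AB B h.comm) :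
    h.Lam h2 e s t = 0 :=
  h.dl0 h2 t.v_mem (h.dlF s.v_mem he)

theorem rad_iff (h2 : ∀ v : V, v + v = 0) (h : Fr a T p E F B) (φ : V →+ ZMod 2) {w : V} (hw : w ∉ E)
    (s : AB B h.comm) : (∀ t, φ (h.Lam h2 w s t) = 0) ↔ ∀ e ∈ E, φ (dl s.v e) = 0 := by
  constructor
  · intro h1 e he
    obtain ⟨t, ht, hf⟩ := h.surj w hw e he
    have h3 := h1 (AB.mk t ht)
    rw [Lam_symm, Lam_apply, AB.v_mk] at h3
    have h4 : dl s.v (dl t w) = dl s.v e := by
      rw [← add_eq_zero' h2, ← map_add]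
      exact h.dl0 h2 s.v_mem hf
    rwa [h4] at h3
  · intro h1 t
    rw [Lam_symm, Lam_apply]
    exact h1 _ (h.dlE t.v_mem w)

/-- **(PF)** -/
theorem pf [Finite Y] [Finite V] (h2 : ∀ v : V, v + v = 0) (h : Fr a T p E F B) (φ : V →+ ZMod 2) :
    (∀ b ∈ B, ∀ e ∈ E, φ (dl b e) = 0) ∨ ∀ w, w ∉ E → ∀ R : AddSubgroup (AB B h.comm),
      (∀ s, s ∈ R ↔ ∀ t, φ (h.Lam h2 w s t) = 0) → a ^ 2 ≤ R.index := by
  by_cases h0 : ∀ b ∈ B, ∀ e ∈ E, φ (dl b e) = 0
  · exact Or.inl h0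
  refine Or.inr fun w hw R hR => ?_
  let γ : V →+ AB B h.comm →+ AB B h.comm →+ ZMod 2 :=
    AddMonoidHom.mk' (fun v => AddMonoidHom.mk' (fun s => φ.comp (h.Lam h2 v s)) (by
      intro s s'
      ext t
      change φ (h.Lam h2 v (s + s') t) = φ (h.Lam h2 v s t) + φ (h.Lam h2 v s' t)
      rw [map_add, AddMonoidHom.add_apply, map_add])) (by
      intro v w
      ext s t
      change φ (h.Lam h2 (v + w) s t) = φ (h.Lam h2 v s t) + φ (h.Lam h2 w s t)
      rw [map_add, AddMonoidHom.add_apply, AddMonoidHom.add_apply, map_add])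
  let β : (V ⧸ E) →+ AB B h.comm →+ AB B h.comm →+ ZMod 2 := QuotientAddGroup.lift E γ (by
    intro e he
    ext s t
    change φ (h.Lam h2 e s t) = 0
    rw [h.Lam_E h2 he, map_zero])
  have hβ : ∀ (v : V) (s t : AB B h.comm), β (v : V ⧸ E) s t = φ (h.Lam h2 v s t) := fun _ _ _ => rfl
  have h3 : ∀ q : V ⧸ E, q + q = 0 := by
    intro q
    induction q using QuotientAddGroup.induction_on with
    | _ v => rw [← QuotientAddGroup.mk_add, h2, QuotientAddGroup.mk_zero]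
  have h4 := NearFF.Pfaff.card_sq_le_index h3 (AB.two h.sq) β (by
    intro q s
    induction q using QuotientAddGroup.induction_on with
    | _ v => rw [hβ, h.Lam_self h2, map_zero]) R (by
    intro q hq s
    induction q using QuotientAddGroup.induction_on with
    | _ v =>
      have hv : v ∉ E := fun h5 => hq ((QuotientAddGroup.eq_zero_iff v).2 h5)
      rw [hR, h.rad_iff h2 φ hw, ← h.rad_iff h2 φ hv]
      constructor
      · intro h5 t
        rw [Lam_symm]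
        exact h5 t
      · intro h5 t
        rw [hβ, Lam_symm]
        exact h5 t) (by
    intro hT
    apply h0
    intro b hb e he
    have h5 : (AB.mk b hb : AB B h.comm) ∈ R := by rw [hT]; trivial
    rw [hR, h.rad_iff h2 φ hw] at h5
    exact h5 e he)
  have h5 : Nat.card (V ⧸ E) = a := by rw [← h.ind]; rfl
  rwa [h5] at h4

/-- the radical -/
def Rad (h2 : ∀ v : V, v + v = 0) (h : Fr a T p E F B) (φ : V →+ ZMod 2) (w : V) :
    AddSubgroup (AB B h.comm) where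
  carrier := {s | ∀ t, φ (h.Lam h2 w s t) = 0}
  zero_mem' := fun t => by rw [map_zero, AddMonoidHom.zero_apply, map_zero]
  add_mem' := fun {s s'} hs hs' t => by
    rw [map_add, AddMonoidHom.add_apply, map_add, hs t, hs' t, add_zero]
  neg_mem' := fun {s} hs t => by
    rw [map_neg, AddMonoidHom.neg_apply, map_neg, hs t, neg_zero]

theorem exists_fixed_vec [Finite V] (h2 : ∀ v : V, v + v = 0) (h : Fr a T p E F B) (T' : Sylow 2 Y) :
    ∃ v : V, v ≠ 0 ∧ ∀ t ∈ T', t • v = v := by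
  obtain ⟨x, hx⟩ := h.ne
  obtain ⟨v, -, h0, h1⟩ := exists_fixed h2 T'.isPGroup' (⊤ : AddSubgroup V) (fun _ _ _ _ => trivial)
    ⟨x, trivial, fun h0 => hx (h0 ▸ E.zero_mem)⟩
  exact ⟨v, h0, h1⟩

theorem mem_of_fix (h2 : ∀ v : V, v + v = 0) (h : Fr a T p E F B) {b : Y} (hb : b ∈ B) (h1 : b ≠ 1) {v : V}
    (hv : b • v = v) : v ∈ E := by
  by_contra hvE
  refine h1 (h.inj v hvE b hb ?_)
  rw [hv, h2]
  exact F.zero_mem

theorem two_pow (h : Fr a T p E F B) : IsPGroup 2 B := fun b => ⟨1, by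
  rw [pow_one, pow_two]; exact Subtype.ext (h.sq _ b.2)⟩

/-- (1) -/
theorem free [Finite Y] [Finite V] (P : Pts Y Ω) (h2 : ∀ v : V, v + v = 0) (h : Fr a T p E F B) {b : Y}
    (hb : b ∈ B) (h1 : b ≠ 1) {q : Ω} (hq : b • q = q) : q = p := by
  have h3 : IsPGroup 2 (zpowers b) := h.two_pow.to_le (zpowers_le.2 hb)
  obtain ⟨T', hT', hat⟩ := P.exists_sylow h3 (p := q) (fun r hr => by
    have h4 : zpowers b ≤ MulAction.stabilizer Y q := zpowers_le.2 hq
    exact h4 hr)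
  obtain ⟨v, hv0, hv⟩ := h.exists_fixed_vec h2 T'
  exact h.plus T' q hat ⟨v, h.mem_of_fix h2 hb h1 (hv b (hT' (mem_zpowers b))), hv0, hv⟩

theorem fixF (h : Fr a T p E F B) {v : V} (hv : ∀ t ∈ T, t • v = v) : v ∈ F :=
  h.CB v fun b hb => hv b (h.BT hb)

end Fr

end frames

end Cfsg.Agent.Omega.NO1.HE

end

section


/-!
# The end of (BT): (2)-(4) of #17521 (N1, helper438): `m = a²`, `V = [E,b] ⊕ E_0`, `B` regular
-/

set_option autoImplicit false
set_option linter.unusedSectionVars false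

namespace Cfsg.Agent.Omega.NO1.HE

open Subgroup
open scoped Pointwise

universe u

variable {Y : Type u} [Group Y] [Finite Y] {V : Type u} [AddCommGroup V] [Finite V] [DistribMulAction Y V]
  {Ω : Type u} [MulAction Y Ω]

namespace Fr

variable {a : ℕ} {T T0 : Sylow 2 Y} {p q : Ω} {E F E0 F0 : AddSubgroup V} {B B0 : Subgroup Y}

theorem card_VE (h : Fr a T p E F B) : Nat.card (V ⧸ E) = a := by rw [← h.ind]; rfl

theorem fixE (h0 : Fr a T0 q E0 F0 B0) {v : V} (hv : ∀ t ∈ T0, t • v = v) : v ∈ E0 :=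
  h0.FE (h0.fixF hv)

/-- `u^b ∉ E_0` -/
theorem not_mem_smul (P : Pts Y Ω) (h2 : ∀ v : V, v + v = 0) (h : Fr a T p E F B)
    (h0 : Fr a T0 q E0 F0 B0) (hpq : p ≠ q) {T' : Sylow 2 Y} (hT' : At T' q) {u : V} (hu0 : u ≠ 0)
    (hu : ∀ t ∈ T', t • u = u) {b : Y} (hb : b ∈ B) (h1 : b • u ∈ E0) : b = 1 := by
  by_contra hb1
  have h3 := h0.plus (b • T') (b • q) (hT'.smul b) ⟨b • u, h1, fun h4 => hu0 (by
    rw [← inv_smul_smul b u, h4, smul_zero]), fun t ht => by
      rw [mem_smul_sylow] at ht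
      have h5 := hu _ ht
      rw [mul_smul, mul_smul, inv_smul_eq_iff] at h5
      exact h5⟩
  exact hpq (h.free P h2 hb hb1 h3).symm

theorem not_mem_E (h : Fr a T p E F B) (hpq : p ≠ q) {T' : Sylow 2 Y} (hT' : At T' q) {u : V}
    (hu0 : u ≠ 0) (hu : ∀ t ∈ T', t • u = u) : u ∉ E :=
  fun h1 => hpq (h.plus T' q hT' ⟨u, h1, hu0, hu⟩).symm

theorem exists_dl_ne (h2 : ∀ v : V, v + v = 0) (h : Fr a T p E F B) : ∃ b ∈ B, ∃ e ∈ E, dl b e ≠ 0 := by
  obtain ⟨e, he, hf⟩ := h.ne'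
  by_contra hcon
  push Not at hcon
  exact hf (h.CB e fun b hb => (dl_eq_zero h2).1 (hcon b hb e he))

theorem le_card_B (h2 : ∀ v : V, v + v = 0) (h : Fr a T p E F B) : a ^ 2 ≤ Nat.card B := by
  obtain ⟨b, hb, e, he, hne⟩ := h.exists_dl_ne h2
  obtain ⟨φ, -, hφ⟩ := exists_fn h2 ⊥ (v := dl b e) (fun h3 => hne (AddSubgroup.mem_bot.1 h3))
  obtain ⟨w, hw⟩ := h.ne
  rcases h.pf h2 φ with h3 | h3
  · exact absurd (h3 b hb e he) hφ
  · have h4 := h3 w hw (h.Rad h2 φ w) (fun s => Iff.rfl)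
    exact h4.trans (Nat.le_of_dvd Nat.card_pos (AddSubgroup.index_dvd_card _))

/-- (2) -/
theorem main (P : Pts Y Ω) (h2 : ∀ v : V, v + v = 0) (h : Fr a T p E F B)
    (h0 : Fr a T0 q E0 F0 B0) (hpq : p ≠ q) : Nat.card B = a ^ 2 ∧
      ∀ ψ : V →+ ZMod 2, (∀ e ∈ E0, ψ e = 0) → (∃ v, ψ v ≠ 0) → ∃ b ∈ B, ∃ e ∈ E, ψ (dl b e) ≠ 0 := by
  obtain ⟨u, hu0, hu⟩ := h0.exists_fixed_vec h2 T0
  have huE : u ∉ E := h.not_mem_E hpq h0.at' hu0 hu
  have huE0 : u ∈ E0 := h0.fixE hu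
  have hQ : ∀ x : V ⧸ E0, x + x = 0 := by
    intro x
    induction x using QuotientAddGroup.induction_on with
    | _ v => rw [← QuotientAddGroup.mk_add, h2, QuotientAddGroup.mk_zero]
  let L : AB B h.comm →+ AB B h.comm →+ V ⧸ E0 :=
    AddMonoidHom.mk' (fun s => (QuotientAddGroup.mk' E0).comp (h.Lam h2 u s)) (by
      intro s s'
      ext t
      change ((h.Lam h2 u (s + s') t : V) : V ⧸ E0) = (h.Lam h2 u s t : V) + (h.Lam h2 u s' t : V)
      rw [map_add, AddMonoidHom.add_apply]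
      rfl)
  have hL : ∀ s t, L s t = ((h.Lam h2 u s t : V) : V ⧸ E0) := fun _ _ => rfl
  have hg : ∀ s t : AB B h.comm, ((dl (s + t).v u : V) : V ⧸ E0) = (dl s.v u : V) + (dl t.v u : V) + L s t := by
    intro s t
    rw [hL, AB.v_add, dl_mul h2, h.Lam_symm h2, Lam_apply]
    rfl
  have h3 := gauss_one (AB.two h.sq) hQ (fun s : AB B h.comm => ((dl s.v u : V) : V ⧸ E0)) L hg (by
    intro s hs
    rw [QuotientAddGroup.eq_zero_iff] at hs
    refine AB.ext (h.not_mem_smul P h2 h0 hpq h0.at' hu0 hu s.v_mem ?_)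
    rw [smul_eq h2]
    exact E0.add_mem huE0 hs) (by
    intro ψ
    rcases h.pf h2 (ψ.comp (QuotientAddGroup.mk' E0)) with h4 | h4
    · left
      intro s t
      exact h4 t.v t.v_mem _ (h.dlE s.v_mem u)
    · right
      intro R hR
      rw [h0.card_VE]
      exact h4 u huE R hR)
  rw [h0.card_VE, AB.card] at h3
  have h4 := le_antisymm h3.1 (h.le_card_B h2)
  refine ⟨h4, fun ψ hψ hne => ?_⟩
  by_contra hcon
  push Not at hcon
  let ψ' : V ⧸ E0 →+ ZMod 2 := QuotientAddGroup.lift E0 ψ hψ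
  refine h3.2 h4 ψ' ?_ ?_
  · intro h5
    obtain ⟨v, hv⟩ := hne
    apply hv
    change ψ' (v : V ⧸ E0) = 0
    rw [h5]
    rfl
  · intro s t
    exact hcon t.v t.v_mem _ (h.dlE s.v_mem u)

/-- nondegeneracy -/
theorem nd (h2 : ∀ v : V, v + v = 0) (h : Fr a T p E F B) (hm : Nat.card B = a ^ 2) {φ : V →+ ZMod 2}
    (hφ : ∃ b ∈ B, ∃ e ∈ E, φ (dl b e) ≠ 0) {w : V} (hw : w ∉ E) {s : AB B h.comm}
    (hs : ∀ t, φ (h.Lam h2 w s t) = 0) : s = 0 := by
  rcases h.pf h2 φ with h3 | h3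
  · obtain ⟨b, hb, e, he, hne⟩ := hφ
    exact absurd (h3 b hb e he) hne
  · have h4 := h3 w hw (h.Rad h2 φ w) (fun s => Iff.rfl)
    have h5 := AddSubgroup.index_mul_card (h.Rad h2 φ w)
    rw [AB.card, hm] at h5
    have h6 : Nat.card (h.Rad h2 φ w) = 1 := by
      have h7 : 0 < Nat.card (h.Rad h2 φ w) := Nat.card_pos
      have h8 : 0 < a ^ 2 := by
        rw [← hm]; exact Nat.card_pos
      by_contra h9
      have h10 : 2 ≤ Nat.card (h.Rad h2 φ w) := by omega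
      have h11 : a ^ 2 * 2 ≤ (h.Rad h2 φ w).index * Nat.card (h.Rad h2 φ w) := Nat.mul_le_mul h4 h10
      omega
    have h7 : h.Rad h2 φ w = ⊥ := AddSubgroup.eq_bot_of_card_eq _ h6
    have h8 : s ∈ h.Rad h2 φ w := hs
    rw [h7] at h8
    exact AddSubgroup.mem_bot.1 h8

theorem nd' (h2 : ∀ v : V, v + v = 0) (h : Fr a T p E F B) (hm : Nat.card B = a ^ 2) {φ : V →+ ZMod 2}
    (hφ : ∃ b ∈ B, ∃ e ∈ E, φ (dl b e) ≠ 0) {b : Y} (hb : b ∈ B) (h1 : b ≠ 1) : ∃ e ∈ E, φ (dl b e) ≠ 0 := by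
  obtain ⟨w, hw⟩ := h.ne
  by_contra hcon
  push Not at hcon
  have h3 := h.nd h2 hm hφ hw (s := AB.mk b hb) ((h.rad_iff h2 φ hw _).2 hcon)
  exact h1 (congrArg AB.v h3)

/-- `[E, b]` -/
def Cm (E : AddSubgroup V) (b : Y) : AddSubgroup V := E.map (dl b)

theorem mem_Cm {E : AddSubgroup V} {b : Y} {v : V} : v ∈ Cm E b ↔ ∃ e ∈ E, dl b e = v := AddSubgroup.mem_map

theorem Cm_le_F (h : Fr a T p E F B) {b : Y} (hb : b ∈ B) : Cm E b ≤ F := by
  intro v hv
  obtain ⟨e, he, rfl⟩ := mem_Cm.1 hv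
  exact h.dlF hb he

/-- (3) : `[E, b] = [E, B]` -/
theorem mem_Cm_of (h2 : ∀ v : V, v + v = 0) (h : Fr a T p E F B) (hm : Nat.card B = a ^ 2) {b : Y}
    (hb : b ∈ B) (h1 : b ≠ 1) {c : Y} (hc : c ∈ B) {e : V} (he : e ∈ E) : dl c e ∈ Cm E b := by
  by_contra hcon
  obtain ⟨φ, hφ, hne⟩ := exists_fn h2 (Cm E b) hcon
  obtain ⟨e', he', h3⟩ := h.nd' h2 hm ⟨c, hc, e, he, hne⟩ hb h1
  exact h3 (hφ _ (mem_Cm.2 ⟨e', he', rfl⟩))

theorem Cm_eq (h2 : ∀ v : V, v + v = 0) (h : Fr a T p E F B) (hm : Nat.card B = a ^ 2) {b c : Y}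
    (hb : b ∈ B) (h1 : b ≠ 1) (hc : c ∈ B) (h1' : c ≠ 1) : Cm E b = Cm E c := by
  apply le_antisymm
  · intro v hv
    obtain ⟨e, he, rfl⟩ := mem_Cm.1 hv
    exact h.mem_Cm_of h2 hm hc h1' hb he
  · intro v hv
    obtain ⟨e, he, rfl⟩ := mem_Cm.1 hv
    exact h.mem_Cm_of h2 hm hb h1 hc he

theorem card_V (h : Fr a T p E F B) : Nat.card V = a * Nat.card E := by
  rw [← h.ind, AddSubgroup.index_mul_card]

theorem card_E (h2 : ∀ v : V, v + v = 0) (h : Fr a T p E F B) : Nat.card E = Nat.card B * Nat.card F := by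
  obtain ⟨w, hw⟩ := h.ne
  let g : B × F → E := fun x => ⟨dl (x.1 : Y) w + x.2, E.add_mem (h.dlE x.1.2 w) (h.FE x.2.2)⟩
  have hg : Function.Bijective g := by
    constructor
    · rintro ⟨⟨b, hb⟩, ⟨f, hf⟩⟩ ⟨⟨c, hc⟩, ⟨f', hf'⟩⟩ h1
      have h3 : dl b w + f = dl c w + f' := congrArg Subtype.val h1
      have h4 : dl b w + dl c w = f + f' := by
        have : dl b w + dl c w + (f + f') = 0 := by
          calc dl b w + dl c w + (f + f') = (dl b w + f) + (dl c w + f') := by abel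
            _ = 0 := by rw [h3, h2]
        exact (add_eq_zero' h2).1 this
      have h5 : dl (c * b) w ∈ F := by
        rw [dl_mul h2, add_comm (dl c w) (dl b w), h4]
        exact F.add_mem (F.add_mem hf hf') (h.dlF hc (h.dlE hb w))
      have h6 := h.inj w hw (c * b) (B.mul_mem hc hb) h5
      have h7 : c = b := by
        have h8 := h.sq c hc
        have : c * b = c * c := by rw [h6, h8]
        exact (mul_left_cancel this).symm
      subst h7
      have h8 : f = f' := add_left_cancel h3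
      subst h8
      rfl
    · rintro ⟨e, he⟩
      obtain ⟨b, hb, h1⟩ := h.surj w hw e he
      refine ⟨⟨⟨b, hb⟩, ⟨b • w + w + e, h1⟩⟩, Subtype.ext ?_⟩
      change dl b w + (dl b w + e) = e
      rw [← add_assoc, h2, zero_add]
  rw [← Nat.card_congr (Equiv.ofBijective g hg), Nat.card_prod]

/-- `|[E,b]| ≤ a` -/
theorem card_Cm_le (h2 : ∀ v : V, v + v = 0) (h : Fr a T p E F B) (hm : Nat.card B = a ^ 2) {b : Y}
    (hb : b ∈ B) (h1 : b ≠ 1) : Nat.card (Cm E b) ≤ a := by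
  -- `ρ : V × F → E`, `(v, f) ↦ [v, b] + f`
  let ρ : V × F →+ V := (dl b).comp (AddMonoidHom.fst V F) + F.subtype.comp (AddMonoidHom.snd V F)
  have hρ : ∀ x : V × F, ρ x = dl b x.1 + x.2 := fun _ => rfl
  let f : E →+ V := (dl b).comp E.subtype
  have hf : f.range = Cm E b := by
    ext v
    rw [AddMonoidHom.mem_range, mem_Cm]
    constructor
    · rintro ⟨x, rfl⟩; exact ⟨x, x.2, rfl⟩
    · rintro ⟨e, he, rfl⟩; exact ⟨⟨e, he⟩, rfl⟩
  have c1 : Nat.card (Cm E b) * Nat.card f.ker = Nat.card E := by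
    rw [← hf, ← AddSubgroup.index_ker, AddSubgroup.index_mul_card]
  have c2 : Nat.card ρ.range * Nat.card ρ.ker = Nat.card V * Nat.card F := by
    rw [← AddSubgroup.index_ker, AddSubgroup.index_mul_card, Nat.card_prod]
  have c3 : Nat.card ρ.ker ≤ Nat.card E := by
    let g : ρ.ker → E := fun x => ⟨x.1.1, by
      by_contra hx
      apply h1
      refine h.inj _ hx b hb ?_
      have h3 : dl b x.1.1 + x.1.2 = 0 := x.2
      rw [add_eq_zero' h2] at h3
      change dl b x.1.1 ∈ F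
      rw [h3]
      exact x.1.2.2⟩
    refine Nat.card_le_card_of_injective g ?_
    rintro ⟨⟨v, f⟩, hx⟩ ⟨⟨v', f'⟩, hx'⟩ h3
    have h4 : v = v' := congrArg Subtype.val h3
    subst h4
    have h5 : dl b v + f = 0 := hx
    have h6 : dl b v + f' = 0 := hx'
    rw [add_eq_zero' h2] at h5 h6
    have h7 : f = f' := Subtype.ext (h5.symm.trans h6)
    subst h7
    rfl
  have c4 : Nat.card ρ.range ≤ Nat.card f.ker := by
    let g : ρ.range → f.ker := fun x => ⟨⟨x.1, by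
      obtain ⟨y, hy⟩ := x.2
      rw [← hy, hρ]
      exact E.add_mem (h.dlE hb _) (h.FE y.2.2)⟩, by
      obtain ⟨y, hy⟩ := x.2
      change dl b x.1 = 0
      rw [← hy, hρ, map_add, dl_self h2 (h.sq b hb), h.dl0 h2 hb y.2.2, add_zero]⟩
    refine Nat.card_le_card_of_injective g ?_
    intro x y h3
    have h4 : (x : V) = y := congrArg (fun z : f.ker => ((z : E) : V)) h3
    exact Subtype.ext h4
  have c5 := h.card_E h2
  have c6 := h.card_V
  have p1 : 0 < Nat.card F := Nat.card_pos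
  have p2 : 0 < Nat.card E := Nat.card_pos
  have p3 : 0 < Nat.card f.ker := Nat.card_pos
  have p4 : 0 < Nat.card ρ.ker := Nat.card_pos
  rw [c6] at c2
  -- `a |F| ≤ |range ρ|`
  have c7 : a * Nat.card F ≤ Nat.card ρ.range := by
    have : a * Nat.card F * Nat.card E ≤ Nat.card ρ.range * Nat.card E := by
      calc a * Nat.card F * Nat.card E = a * Nat.card E * Nat.card F := by ring
        _ = Nat.card ρ.range * Nat.card ρ.ker := c2.symm
        _ ≤ _ := Nat.mul_le_mul_left _ c3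
    exact Nat.le_of_mul_le_mul_right this p2
  rw [hm] at c5
  by_contra hcon
  push Not at hcon
  have h9 : a * (a * Nat.card F) < Nat.card (Cm E b) * Nat.card f.ker :=
    Nat.mul_lt_mul_of_lt_of_le hcon (c7.trans c4) (by positivity)
  rw [c1, c5] at h9
  have : a ^ 2 * Nat.card F = a * (a * Nat.card F) := by ring
  omega

/-- (3) : `V = [E,b] + E_0` -/
theorem exists_add (P : Pts Y Ω) (h2 : ∀ v : V, v + v = 0) (h : Fr a T p E F B)
    (h0 : Fr a T0 q E0 F0 B0) (hpq : p ≠ q) {b : Y} (hb : b ∈ B) (h1 : b ≠ 1) (v : V) :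
    ∃ x ∈ Cm E b, ∃ y ∈ E0, x + y = v := by
  rw [← AddSubgroup.mem_sup]
  by_contra hcon
  obtain ⟨φ, hφ, hne⟩ := exists_fn h2 _ hcon
  obtain ⟨hm, h3⟩ := h.main P h2 h0 hpq
  obtain ⟨e, he, h4⟩ := h.nd' h2 hm (h3 φ (fun e he => hφ e (AddSubgroup.mem_sup_right he)) ⟨v, hne⟩) hb h1
  exact h4 (hφ _ (AddSubgroup.mem_sup_left (mem_Cm.2 ⟨e, he, rfl⟩)))

theorem card_Cm (P : Pts Y Ω) (h2 : ∀ v : V, v + v = 0) (h : Fr a T p E F B)
    (h0 : Fr a T0 q E0 F0 B0) (hpq : p ≠ q) {b : Y} (hb : b ∈ B) (h1 : b ≠ 1) :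
    Nat.card (Cm E b) = a ∧ ∀ x ∈ Cm E b, x ∈ E0 → x = 0 := by
  have hm := (h.main P h2 h0 hpq).1
  let f : Cm E b →+ V ⧸ E0 := (QuotientAddGroup.mk' E0).comp (Cm E b).subtype
  have hs : Function.Surjective f := by
    intro x
    induction x using QuotientAddGroup.induction_on with
    | _ v =>
      obtain ⟨x, hx, y, hy, rfl⟩ := h.exists_add P h2 h0 hpq hb h1 v
      refine ⟨⟨x, hx⟩, ?_⟩
      change ((x : V) : V ⧸ E0) = ((x + y : V) : V ⧸ E0)
      rw [QuotientAddGroup.mk_add, (QuotientAddGroup.eq_zero_iff y).2 hy, add_zero]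
  have c1 := h.card_Cm_le h2 hm hb h1
  have c2 := Nat.card_le_card_of_surjective f hs
  rw [h0.card_VE] at c2
  have c3 := le_antisymm c1 c2
  refine ⟨c3, fun x hx hx0 => ?_⟩
  have h3 : Function.Bijective f := by
    have : Nat.card (V ⧸ E0) = Nat.card (Cm E b) := by rw [h0.card_VE, c3]
    exact hs.bijective_of_nat_card_le this.ge
  have h4 : f ⟨x, hx⟩ = f 0 := by
    rw [map_zero]
    exact (QuotientAddGroup.eq_zero_iff x).2 hx0
  exact congrArg Subtype.val (h3.1 h4)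

/-- (3) : `[v, B] = I` for `v ∈ E - F` -/
theorem exists_dl (h2 : ∀ v : V, v + v = 0) (h : Fr a T p E F B) (hm : Nat.card B = a ^ 2) {b : Y}
    (hb : b ∈ B) (h1 : b ≠ 1) {v : V} (hv : v ∈ E) (hvF : v ∉ F) {i : V} (hi : i ∈ Cm E b) :
    ∃ c ∈ B, dl c v = i := by
  obtain ⟨w, hw⟩ := h.ne
  obtain ⟨s, hs, h3⟩ := h.surj w hw v hv
  have hs1 : s ≠ 1 := by
    rintro rfl
    apply hvF
    rwa [one_smul, h2, zero_add] at h3
  rw [h.Cm_eq h2 hm hb h1 hs hs1] at hi
  obtain ⟨e, he, rfl⟩ := mem_Cm.1 hi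
  obtain ⟨c, hc, h4⟩ := h.surj w hw e he
  refine ⟨c, hc, ?_⟩
  have e1 : dl c v = dl c (dl s w) := by
    rw [← add_eq_zero' h2, ← map_add]
    have : v + dl s w = s • w + w + v := by rw [dl_apply]; abel
    rw [this]
    exact h.dl0 h2 hc h3
  have e2 : dl s e = dl s (dl c w) := by
    rw [← add_eq_zero' h2, ← map_add]
    have : e + dl c w = c • w + w + e := by rw [dl_apply]; abel
    rw [this]
    exact h.dl0 h2 hs h4
  rw [e1, e2]
  exact dl_comm (h.comm c hc s hs) w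

/-- (4) -/
theorem exists_smul_mem (P : Pts Y Ω) (h2 : ∀ v : V, v + v = 0) (h : Fr a T p E F B)
    (h0 : Fr a T0 q E0 F0 B0) (hpq : p ≠ q) {v : V} (hv : v ∉ E) : ∃ b ∈ B, b • v ∈ E0 := by
  obtain ⟨hm, h3⟩ := h.main P h2 h0 hpq
  have hQ : ∀ x : V ⧸ E0, x + x = 0 := by
    intro x
    induction x using QuotientAddGroup.induction_on with
    | _ v => rw [← QuotientAddGroup.mk_add, h2, QuotientAddGroup.mk_zero]
  let L : AB B h.comm →+ AB B h.comm →+ V ⧸ E0 :=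
    AddMonoidHom.mk' (fun s => (QuotientAddGroup.mk' E0).comp (h.Lam h2 v s)) (by
      intro s s'
      ext t
      change ((h.Lam h2 v (s + s') t : V) : V ⧸ E0) = (h.Lam h2 v s t : V) + (h.Lam h2 v s' t : V)
      rw [map_add, AddMonoidHom.add_apply]
      rfl)
  have hL : ∀ s t, L s t = ((h.Lam h2 v s t : V) : V ⧸ E0) := fun _ _ => rfl
  have hg : ∀ s t : AB B h.comm, ((dl (s + t).v v : V) : V ⧸ E0) = (dl s.v v : V) + (dl t.v v : V) + L s t := by
    intro s t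
    rw [hL, AB.v_add, dl_mul h2, h.Lam_symm h2, Lam_apply]
    rfl
  obtain ⟨s, hs⟩ := gauss_two (AB.two h.sq) hQ (fun s : AB B h.comm => ((dl s.v v : V) : V ⧸ E0)) L hg (by
    rw [h0.card_VE, AB.card, hm]) (by
    intro ψ hψ s hs
    have h4 : ∃ x : V, (ψ.comp (QuotientAddGroup.mk' E0)) x ≠ 0 := by
      by_contra hcon
      push Not at hcon
      apply hψ
      ext x
      exact hcon x
    exact h.nd h2 hm (φ := ψ.comp (QuotientAddGroup.mk' E0)) (h3 _ (fun e he => by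
      change ψ ((e : V) : V ⧸ E0) = 0
      rw [(QuotientAddGroup.eq_zero_iff e).2 he, map_zero]) h4) hv hs) (v : V ⧸ E0)
  refine ⟨s.v, s.v_mem, ?_⟩
  rw [smul_eq h2, ← QuotientAddGroup.eq_zero_iff, QuotientAddGroup.mk_add, add_eq_zero' hQ]
  exact hs.symm

/-- (4) : `B` is transitive on the points `≠ p` -/
theorem trans (P : Pts Y Ω) (h2 : ∀ v : V, v + v = 0) (h : Fr a T p E F B)
    (h0 : Fr a T0 q E0 F0 B0) (hpq : p ≠ q) {r : Ω} (hr : r ≠ p) : ∃ b ∈ B, b • r = q := by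
  obtain ⟨T1⟩ : Nonempty (Sylow 2 Y) := inferInstance
  obtain ⟨r', hr'⟩ := P.ex T1
  obtain ⟨y, rfl⟩ := P.tr r' r
  have hat := hr'.smul y
  obtain ⟨v, hv0, hv⟩ := h0.exists_fixed_vec h2 (y • T1)
  have hvE : v ∉ E := h.not_mem_E (Ne.symm hr) hat hv0 hv
  obtain ⟨b, hb, h3⟩ := h.exists_smul_mem P h2 h0 hpq hvE
  refine ⟨b, hb, ?_⟩
  refine h0.plus (b • (y • T1)) _ (hat.smul b) ⟨b • v, h3, fun h4 => hv0 (by
    rw [← inv_smul_smul b v, h4, smul_zero]), fun t ht => ?_⟩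
  rw [mem_smul_sylow] at ht
  have h5 := hv _ ht
  rw [mul_smul, mul_smul, inv_smul_eq_iff] at h5
  exact h5

end Fr

end Cfsg.Agent.Omega.NO1.HE

end

section


/-!
# The end of (BT): (5)-(7) of #17521 (N1, helper438): frames depend only on the point
-/

set_option autoImplicit false
set_option linter.unusedSectionVars false

namespace Cfsg.Agent.Omega.NO1.HE

open Subgroup
open scoped Pointwise

universe u

section ev

variable {W : Type u} [AddCommGroup W]

theorem exists_ev [Finite W] (h2 : ∀ w : W, w + w = 0) (R : AddSubgroup (W →+ ZMod 2)) {φ : W →+ ZMod 2}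
    (hφ : φ ∉ R) : ∃ w, (∀ r ∈ R, r w = 0) ∧ φ w ≠ 0 := by
  let i1 : Module (ZMod 2) W := AddCommGroup.zmodModule (n := 2) fun a => by rw [two_nsmul]; exact h2 a
  let R0 : AddSubgroup (Module.Dual (ZMod 2) W) :=
    { carrier := {f | f.toAddMonoidHom ∈ R}
      zero_mem' := R.zero_mem
      add_mem' := fun {f g} hf hg => R.add_mem hf hg
      neg_mem' := fun {f} hf => R.neg_mem hf }
  have h1 : φ.toZModLinearMap 2 ∉ AddSubgroup.toZModSubmodule 2 R0 := fun h => hφ h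
  obtain ⟨Φ, hΦ, hR⟩ := Submodule.exists_le_ker_of_notMem h1
  have i3 : Module.Finite (ZMod 2) W := Module.Finite.of_finite
  refine ⟨(Module.evalEquiv (ZMod 2) W).symm Φ, fun r hr => ?_, fun h0 => hΦ ?_⟩
  · have h3 : r.toZModLinearMap 2 ∈ AddSubgroup.toZModSubmodule 2 R0 := hr
    have h4 := hR h3
    have h5 := Module.apply_evalEquiv_symm_apply (R := ZMod 2) (M := W) (r.toZModLinearMap 2) Φ
    rw [LinearMap.mem_ker.1 h4] at h5
    exact h5
  · have h5 := Module.apply_evalEquiv_symm_apply (R := ZMod 2) (M := W) (φ.toZModLinearMap 2) Φ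
    rw [← h5]
    exact h0

end ev

variable {Y : Type u} [Group Y] [Finite Y] {V : Type u} [AddCommGroup V] [Finite V] [DistribMulAction Y V]
  {Ω : Type u} [MulAction Y Ω]

namespace Fr

variable {a : ℕ} {T T0 T' : Sylow 2 Y} {p q : Ω} {E F E0 F0 E' F' : AddSubgroup V} {B B0 B' : Subgroup Y}

theorem congr' {T1 T2 : Sylow 2 Y} {p1 p2 : Ω} (h : Fr a T1 p1 E F B) (hT : T1 = T2) (hp : p1 = p2) :
    Fr a T2 p2 E F B := by
  subst hT; subst hp; exact h

theorem exists_fr (P : Pts Y Ω) (h : Fr a T p E F B) {T' : Sylow 2 Y} {q : Ω} (hq : At T' q) :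
    ∃ (E' F' : AddSubgroup V) (B' : Subgroup Y), Fr a T' q E' F' B' := by
  obtain ⟨y, hy⟩ := MulAction.exists_smul_eq Y T T'
  have h1 := h.smul y
  refine ⟨_, _, _, h1.congr' hy (P.one T' _ _ ?_ hq)⟩
  rw [← hy]
  exact h1.at'

theorem smul_mem_of (hTp : At T p) (hpq : q ≠ p) {t : Y} (ht : t ∈ T) : t • q ≠ p := by
  intro h1
  have h2 := hTp t ht
  rw [← h2] at h1
  exact hpq (smul_left_cancel _ h1)

theorem inv_eq (h : Fr a T p E F B) {b : Y} (hb : b ∈ B) : b⁻¹ = b :=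
  inv_eq_of_mul_eq_one_right (h.sq b hb)

theorem exists_T0 (P : Pts Y Ω) (T : Sylow 2 Y) (q : Ω) :
    ∃ T0 : Sylow 2 Y, (∀ t ∈ T, t • q = q → t ∈ T0) ∧ At T0 q := by
  obtain ⟨T0, h1, h2⟩ := P.exists_sylow (R := (T : Subgroup Y) ⊓ MulAction.stabilizer Y q)
    (T.isPGroup'.to_le inf_le_left) (fun r hr => hr.2)
  exact ⟨T0, fun t ht hq => h1 ⟨ht, hq⟩, h2⟩

/-- (5) : `T = B T_H` -/
theorem exists_k (P : Pts Y Ω) (h2 : ∀ v : V, v + v = 0) (h : Fr a T p E F B)
    (h0 : Fr a T0 q E0 F0 B0) (hpq : p ≠ q) {t : Y} (ht : t ∈ T) :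
    ∃ b ∈ B, ∃ k ∈ T, k • q = q ∧ t = b * k := by
  obtain ⟨b, hb, h1⟩ := h.trans P h2 h0 hpq (smul_mem_of h.at' hpq.symm ht)
  refine ⟨b, hb, b * t, T.mul_mem (h.BT hb) ht, ?_, ?_⟩
  · rw [mul_smul]
    exact h1
  · rw [← mul_assoc, h.sq b hb, one_mul]

theorem fix_one (P : Pts Y Ω) {k : Y} (hk : k ∈ T) (hfix : ∀ r : Ω, k • r = r) : k = 1 := by
  have h1 := P.ker (zpowers k) (T.isPGroup'.to_le (zpowers_le.2 hk)) (fun r hr s => by
    have h4 : zpowers k ≤ MulAction.stabilizer Y s := zpowers_le.2 (hfix s)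
    exact h4 hr)
  exact zpowers_eq_bot.1 h1

/-- (5) : `Z(T) ≤ B` -/
theorem center_le (P : Pts Y Ω) (h2 : ∀ v : V, v + v = 0) (h : Fr a T p E F B)
    (h0 : Fr a T0 q E0 F0 B0) (hpq : p ≠ q) {z : Y} (hz : z ∈ T) (hc : ∀ t ∈ T, z * t = t * z) : z ∈ B := by
  obtain ⟨b, hb, k, hkT, hk, hzk⟩ := h.exists_k P h2 h0 hpq hz
  have hkc : ∀ c ∈ B, k * c = c * k := by
    intro c hc'
    have h3 : k = b⁻¹ * z := by rw [hzk]; group
    rw [h3, mul_assoc, hc c (h.BT hc'), ← mul_assoc, ← mul_assoc]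
    congr 1
    rw [h.inv_eq hb]
    exact h.comm b hb c hc'
  have h3 : k = 1 := fix_one P hkT fun r => by
    by_cases hr : r = p
    · rw [hr]; exact h.at' k hkT
    · obtain ⟨c, hc', h4⟩ := h.trans P h2 h0 hpq hr
      have h5 : c • k • r = c • r := by
        rw [← mul_smul, ← hkc c hc', mul_smul, h4, hk]
      exact smul_left_cancel _ h5
  rw [hzk, h3, mul_one]
  exact hb

theorem exists_ne_one (h : Fr a T p E F B) : ∃ b ∈ B, b ≠ 1 := by
  obtain ⟨e, he, hf⟩ := h.ne'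
  by_contra hcon
  push Not at hcon
  exact hf (h.CB e fun b hb => by rw [hcon b hb, one_smul])

theorem exists_center (h : Fr a T p E F B) : ∃ z ∈ T, z ≠ 1 ∧ ∀ t ∈ T, z * t = t * z := by
  have : Fact (Nat.Prime 2) := ⟨Nat.prime_two⟩
  obtain ⟨b, hb, hb1⟩ := h.exists_ne_one
  have h1 : Nontrivial T := ⟨⟨b, h.BT hb⟩, 1, fun h4 => hb1 (congrArg Subtype.val h4)⟩
  have h3 : Nontrivial (Subgroup.center T) := T.isPGroup'.center_nontrivial
  obtain ⟨⟨⟨z, hz⟩, hzc⟩, hne⟩ := exists_ne (1 : Subgroup.center T)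
  refine ⟨z, hz, fun h5 => hne (Subtype.ext (Subtype.ext h5)), fun t ht => ?_⟩
  have h6 := (Subgroup.mem_center_iff.1 hzc) ⟨t, ht⟩
  exact (congrArg Subtype.val h6).symm

/-- (5) : `u^T = u^B` -/
theorem smul_eq_smul (P : Pts Y Ω) (h2 : ∀ v : V, v + v = 0) (h : Fr a T p E F B)
    (h0 : Fr a T0 q E0 F0 B0) (hpq : p ≠ q) (hT0 : ∀ t ∈ T, t • q = q → t ∈ T0) {u : V}
    (hu : ∀ t ∈ T0, t • u = u) {t : Y} (ht : t ∈ T) : ∃ b ∈ B, t • u = b • u := by
  obtain ⟨b, hb, k, hkT, hk, rfl⟩ := h.exists_k P h2 h0 hpq ht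
  exact ⟨b, hb, by rw [mul_smul, hu k (hT0 k hkT hk)]⟩

theorem smul_add_smul_mem (h2 : ∀ v : V, v + v = 0) (h : Fr a T p E F B) {b c : Y} (hb : b ∈ B)
    (hc : c ∈ B) (u : V) : b • u + c • u ∈ E := by
  rw [smul_eq h2 b, smul_eq h2 c]
  have : u + dl b u + (u + dl c u) = dl b u + dl c u := by
    calc u + dl b u + (u + dl c u) = (u + u) + (dl b u + dl c u) := by abel
      _ = _ := by rw [h2, zero_add]
  rw [this]
  exact E.add_mem (h.dlE hb u) (h.dlE hc u)

/-- (5) : `E`, `I` do not depend on the frame at `T` -/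
theorem E_le (P : Pts Y Ω) (h2 : ∀ v : V, v + v = 0) (h : Fr a T p E F B) (h' : Fr a T p E' F' B')
    {z : Y} (hz : z ∈ T) (hz1 : z ≠ 1) (hzc : ∀ t ∈ T, z * t = t * z) : E ≤ E' := by
  obtain ⟨q, hq⟩ := P.ne p
  obtain ⟨T0, hT0, hat⟩ := exists_T0 P T q
  obtain ⟨E0, F0, B0, h0⟩ := h.exists_fr P hat
  obtain ⟨u, hu0, hu⟩ := h0.exists_fixed_vec h2 T0
  have huE := h.not_mem_E hq.symm hat hu0 hu
  have huE' := h'.not_mem_E hq.symm hat hu0 hu
  have hzB := h.center_le P h2 h0 hq.symm hz hzc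
  have hzB' := h'.center_le P h2 h0 hq.symm hz hzc
  -- `[E, z] ≤ [E', z]`
  have key : ∀ e ∈ E, dl z e ∈ F' := by
    intro e he
    obtain ⟨b, hb, hf⟩ := h.surj u huE e he
    obtain ⟨c, hc, h4⟩ := h'.smul_eq_smul P h2 h0 hq.symm hT0 hu (h.BT hb)
    have h5 : b • u + u ∈ E' := by
      have := h'.smul_add_smul_mem h2 hc B'.one_mem u
      rwa [one_smul, ← h4] at this
    have h6 : dl z e = dl z (b • u + u) := by
      rw [← add_eq_zero' h2, ← map_add, add_comm]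
      exact h.dl0 h2 hzB hf
    rw [h6]
    exact h'.dlF hzB' h5
  intro e he
  by_contra he'
  exact hz1 (h'.inj e he' z hzB' (key e he))

theorem E_eq (P : Pts Y Ω) (h2 : ∀ v : V, v + v = 0) (h : Fr a T p E F B) (h' : Fr a T p E' F' B') :
    E = E' := by
  obtain ⟨z, hz, hz1, hzc⟩ := h.exists_center
  exact le_antisymm (h.E_le P h2 h' hz hz1 hzc) (h'.E_le P h2 h hz hz1 hzc)

/-- `E` is `T`-invariant -/
theorem smul_E (P : Pts Y Ω) (h2 : ∀ v : V, v + v = 0) (h : Fr a T p E F B) {t : Y} (ht : t ∈ T) {e : V}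
    (he : e ∈ E) : t • e ∈ E := by
  have h1 := h.smul t
  have h3 : t • T = T := by
    ext y
    change y ∈ t • T ↔ y ∈ T
    rw [mem_smul_sylow]
    constructor
    · intro h4
      have : y = t * (t⁻¹ * y * t) * t⁻¹ := by group
      rw [this]
      exact T.mul_mem (T.mul_mem ht h4) (T.inv_mem ht)
    · intro h4
      exact T.mul_mem (T.mul_mem (T.inv_mem ht) h4) ht
  have h4 := h1.congr' h3 (h.at' t ht)
  rw [h.E_eq P h2 h4]
  exact AddSubgroup.smul_mem_pointwise_smul e t E he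

theorem eq_of_dl (h2 : ∀ v : V, v + v = 0) (h : Fr a T p E F B) {b c : Y} (hb : b ∈ B) (hc : c ∈ B) {w : V}
    (hw : w ∉ E) (h1 : dl b w + dl c w ∈ F) : b = c := by
  have h5 : dl (c * b) w ∈ F := by
    rw [dl_mul h2, add_comm (dl c w) (dl b w)]
    exact F.add_mem h1 (h.dlF hc (h.dlE hb w))
  have h6 := h.inj w hw (c * b) (B.mul_mem hc hb) h5
  have : c * b = c * c := by rw [h6, h.sq c hc]
  exact mul_left_cancel this

/-- (6) : `B = Q_T` -/
theorem mem_B (P : Pts Y Ω) (h2 : ∀ v : V, v + v = 0) (hf : ∀ y : Y, (∀ v : V, y • v = v) → y = 1)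
    (h : Fr a T p E F B) {z : Y} (hzB : z ∈ B) (hz1 : z ≠ 1) (_hzc : ∀ t ∈ T, z * t = t * z) {t : Y}
    (ht : t ∈ T) (hE : ∀ v, dl t v ∈ E) (hI : ∀ e ∈ E, dl t e ∈ Cm E z) : t ∈ B := by
  obtain ⟨q, hq⟩ := P.ne p
  obtain ⟨T0, hT0, hat⟩ := exists_T0 P T q
  obtain ⟨E0, F0, B0, h0⟩ := h.exists_fr P hat
  obtain ⟨u, hu0, hu⟩ := h0.exists_fixed_vec h2 T0
  have huE := h.not_mem_E hq.symm hat hu0 hu
  have huE0 := h0.fixE hu
  have hm := (h.main P h2 h0 hq.symm).1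
  obtain ⟨b, hb, hbu⟩ := h.smul_eq_smul P h2 h0 hq.symm hT0 hu ht
  have hbb : ∀ v : V, b • b • v = v := fun v => by rw [← mul_smul, h.sq b hb, one_smul]
  have hku : (b * t) • u = u := by rw [mul_smul, hbu, hbb]
  have hkT : b * t ∈ T := T.mul_mem (h.BT hb) ht
  have hkE : ∀ v, dl (b * t) v ∈ E := fun v => by
    rw [dl_mul h2]
    exact E.add_mem (E.add_mem (h.dlE hb v) (hE v)) (h.dlE hb _)
  have hkI : ∀ e ∈ E, dl (b * t) e ∈ Cm E z := fun e he => by
    rw [dl_mul h2, h.dl0 h2 hb (h.Cm_le_F hzB (hI e he)), add_zero]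
    exact (Cm E z).add_mem (h.mem_Cm_of h2 hm hzB hz1 hb he) (hI e he)
  set k := b * t with hk
  have hkq : k • q = q := by
    refine h0.plus (k • T0) (k • q) (hat.smul k) ⟨u, huE0, hu0, fun s hs => ?_⟩
    rw [mem_smul_sylow] at hs
    have h5 := hu _ hs
    rw [mul_smul, mul_smul, hku, inv_smul_eq_iff, hku] at h5
    exact h5
  have hkT0 : k ∈ T0 := hT0 k hkT hkq
  obtain ⟨z0, hz0, hz01, hz0c⟩ := h0.exists_center
  have hz0B := h0.center_le P h2 h hq hz0 hz0c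
  -- step A
  have sA : ∀ x ∈ Cm E0 z0, k • x = x := by
    intro x hx
    rw [← dl_eq_zero h2]
    refine (h0.card_Cm P h2 h hq hz0B hz01).2 _ ?_ (hkE x)
    refine (Cm E0 z0).add_mem ?_ hx
    obtain ⟨e, he, rfl⟩ := mem_Cm.1 hx
    refine mem_Cm.2 ⟨k • e, h0.smul_E P h2 hkT0 he, ?_⟩
    rw [dl_apply, dl_apply, smul_add, ← mul_smul, ← mul_smul, hz0c k hkT0]
  -- step B
  have sB : ∀ y ∈ E, y ∈ E0 → k • y = y := by
    intro y hy hy0
    rw [← dl_eq_zero h2]
    exact (h.card_Cm P h2 h0 hq.symm hzB hz1).2 _ (hkI y hy) (E0.add_mem (h0.smul_E P h2 hkT0 hy0) hy0)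
  -- step C
  have sC : ∀ c ∈ B, k • c • u = c • u := by
    intro c hc
    obtain ⟨c', hc', h3⟩ := h.smul_eq_smul P h2 h0 hq.symm hT0 hu (T.mul_mem hkT (h.BT hc))
    rw [mul_smul] at h3
    have h4 : k • c • u = u + dl c u + dl k (dl c u) := by
      rw [smul_eq h2 c u, smul_add, hku, smul_eq h2 k (dl c u)]
      abel
    have h5 : dl c' u + dl c u = dl k (dl c u) := by
      have h6 : u + dl c' u = u + (dl c u + dl k (dl c u)) := by
        rw [← smul_eq h2, ← h3, h4, add_assoc]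
      rw [add_left_cancel h6]
      calc dl c u + dl k (dl c u) + dl c u = (dl c u + dl c u) + dl k (dl c u) := by abel
        _ = _ := by rw [h2, zero_add]
    have h6 : c' = c := h.eq_of_dl h2 hc' hc huE (by
      rw [h5]
      exact h.Cm_le_F hzB (hkI _ (h.dlE hc u)))
    rw [h3, h6]
  have sI : ∀ i ∈ Cm E z, k • i = i := by
    intro i hi
    obtain ⟨e, he, rfl⟩ := mem_Cm.1 hi
    obtain ⟨c, hc, h3⟩ := h.surj u huE e he
    have h4 : dl z e = z • c • u + z • u + (c • u + u) := by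
      have h6 : dl z e = dl z (c • u + u) := by
        rw [← add_eq_zero' h2, ← map_add, add_comm]
        exact h.dl0 h2 hzB h3
      rw [h6, dl_apply, smul_add]
    rw [h4, smul_add, smul_add, smul_add, sC c hc, hku, sC z hzB, ← mul_smul z c, sC _ (B.mul_mem hzB hc)]
  have h3 : k = 1 := hf k fun v => by
    obtain ⟨x, hx, y, hy, rfl⟩ := h0.exists_add P h2 h hq hz0B hz01 v
    obtain ⟨i, hi, y', hy', rfl⟩ := h.exists_add P h2 h0 hq.symm hzB hz1 y
    have hy'E : y' ∈ E := by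
      have h5 := E.add_mem (h.FE (h.Cm_le_F hzB hi)) hy
      rwa [← add_assoc, h2, zero_add] at h5
    rw [smul_add, smul_add, sA x hx, sI i hi, sB y' hy'E hy']
  have h4 : t = b⁻¹ * k := by rw [hk]; group
  rw [h4, h3, mul_one]
  exact B.inv_mem hb

/-- (6) : `B` is normal in `T` -/
theorem conj_mem (P : Pts Y Ω) (h2 : ∀ v : V, v + v = 0) (hf : ∀ y : Y, (∀ v : V, y • v = v) → y = 1)
    (h : Fr a T p E F B) {t : Y} (ht : t ∈ T) {b : Y} (hb : b ∈ B) : t * b * t⁻¹ ∈ B := by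
  obtain ⟨z, hz, hz1, hzc⟩ := h.exists_center
  obtain ⟨q, hq⟩ := P.ne p
  obtain ⟨T0, hT0, hat⟩ := exists_T0 P T q
  obtain ⟨E0, F0, B0, h0⟩ := h.exists_fr P hat
  have hzB := h.center_le P h2 h0 hq.symm hz hzc
  have hm := (h.main P h2 h0 hq.symm).1
  have key : ∀ v : V, dl (t * b * t⁻¹) v = t • dl b (t⁻¹ • v) := by
    intro v
    rw [dl_apply, dl_apply, smul_add, smul_inv_smul, mul_smul, mul_smul]
  refine h.mem_B P h2 hf hzB hz1 hzc (T.mul_mem (T.mul_mem ht (h.BT hb)) (T.inv_mem ht)) (fun v => ?_)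
    (fun e he => ?_)
  · rw [key]
    exact h.smul_E P h2 ht (h.dlE hb _)
  · rw [key]
    obtain ⟨e', he', h3⟩ := mem_Cm.1 (h.mem_Cm_of h2 hm hzB hz1 hb (h.smul_E P h2 (T.inv_mem ht) he))
    rw [← h3]
    refine mem_Cm.2 ⟨t • e', h.smul_E P h2 ht he', ?_⟩
    rw [dl_apply, dl_apply, smul_add, ← mul_smul, ← mul_smul, hzc t ht]

theorem smul_F (P : Pts Y Ω) (h2 : ∀ v : V, v + v = 0) (hf : ∀ y : Y, (∀ v : V, y • v = v) → y = 1)
    (h : Fr a T p E F B) {t : Y} (ht : t ∈ T) {f : V} (hfF : f ∈ F) : t • f ∈ F := by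
  refine h.CB _ fun b hb => ?_
  have h1 := h.conj_mem P h2 hf (T.inv_mem ht) hb
  rw [inv_inv] at h1
  have h3 := h.FB _ h1 f hfF
  rw [mul_smul, mul_smul, inv_smul_eq_iff] at h3
  exact h3

/-- (6) : `F ∩ E_0 = 0` for a good `T_0` -/
theorem F_inf (P : Pts Y Ω) (h2 : ∀ v : V, v + v = 0) (hf : ∀ y : Y, (∀ v : V, y • v = v) → y = 1)
    (h : Fr a T p E F B) (h0 : Fr a T0 q E0 F0 B0) (hpq : p ≠ q) (hT0 : ∀ t ∈ T, t • q = q → t ∈ T0)
    {w : V} (hw : w ∈ F) (hw0 : w ∈ E0) : w = 0 := by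
  by_contra hne
  obtain ⟨x, hx, hx0, hfix⟩ := exists_fixed h2 T.isPGroup' (F ⊓ E0) (by
    rintro t ht v ⟨hv, hv0⟩
    obtain ⟨b, hb, k, hkT, hk, rfl⟩ := h.exists_k P h2 h0 hpq ht
    have h3 : k • v ∈ F := h.smul_F P h2 hf hkT hv
    rw [mul_smul, h.FB b hb _ h3]
    exact ⟨h3, h0.smul_E P h2 (hT0 k hkT hk) hv0⟩) ⟨w, ⟨hw, hw0⟩, hne⟩
  exact hpq (h0.plus T p h.at' ⟨x, hx.2, hx0, hfix⟩)

/-- (6) : `F = I` -/
theorem F_eq (P : Pts Y Ω) (h2 : ∀ v : V, v + v = 0) (hf : ∀ y : Y, (∀ v : V, y • v = v) → y = 1)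
    (h : Fr a T p E F B) {b : Y} (hb : b ∈ B) (h1 : b ≠ 1) : F = Cm E b := by
  obtain ⟨q, hq⟩ := P.ne p
  obtain ⟨T0, hT0, hat⟩ := exists_T0 P T q
  obtain ⟨E0, F0, B0, h0⟩ := h.exists_fr P hat
  refine le_antisymm (fun f hfF => ?_) (h.Cm_le_F hb)
  obtain ⟨x, hx, y, hy, rfl⟩ := h.exists_add P h2 h0 hq.symm hb h1 f
  have h3 : y ∈ F := by
    have h5 := F.add_mem (h.Cm_le_F hb hx) hfF
    rwa [← add_assoc, h2, zero_add] at h5
  rw [h.F_inf P h2 hf h0 hq.symm hT0 h3 hy, add_zero]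
  exact hx

theorem disj (P : Pts Y Ω) (h2 : ∀ v : V, v + v = 0) (hf : ∀ y : Y, (∀ v : V, y • v = v) → y = 1)
    (h : Fr a T p E F B) (h0 : Fr a T0 q E0 F0 B0) (hpq : p ≠ q) {w : V} (hw : w ∈ F) (hw0 : w ∈ E0) :
    w = 0 := by
  obtain ⟨b, hb, h1⟩ := h.exists_ne_one
  rw [h.F_eq P h2 hf hb h1] at hw
  exact (h.card_Cm P h2 h0 hpq hb h1).2 w hw hw0

theorem sum (P : Pts Y Ω) (h2 : ∀ v : V, v + v = 0) (hf : ∀ y : Y, (∀ v : V, y • v = v) → y = 1)
    (h : Fr a T p E F B) (h0 : Fr a T0 q E0 F0 B0) (hpq : p ≠ q) (v : V) :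
    ∃ x ∈ F, ∃ y ∈ E0, x + y = v := by
  obtain ⟨b, hb, h1⟩ := h.exists_ne_one
  rw [h.F_eq P h2 hf hb h1]
  exact h.exists_add P h2 h0 hpq hb h1 v

theorem card_F (P : Pts Y Ω) (h2 : ∀ v : V, v + v = 0) (hf : ∀ y : Y, (∀ v : V, y • v = v) → y = 1)
    (h : Fr a T p E F B) : Nat.card F = a := by
  obtain ⟨q, hq⟩ := P.ne p
  obtain ⟨T0, hT0, hat⟩ := exists_T0 P T q
  obtain ⟨E0, F0, B0, h0⟩ := h.exists_fr P hat
  obtain ⟨b, hb, h1⟩ := h.exists_ne_one
  rw [h.F_eq P h2 hf hb h1]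
  exact (h.card_Cm P h2 h0 hq.symm hb h1).1

/-- (7) : `F` depends only on the point -/
theorem F_le (P : Pts Y Ω) (h2 : ∀ v : V, v + v = 0) (hf : ∀ y : Y, (∀ v : V, y • v = v) → y = 1)
    (h : Fr a T p E F B) (h' : Fr a T' p E' F' B') : F' ≤ F := by
  obtain ⟨q, hq⟩ := P.ne p
  obtain ⟨T0, hT0, hat⟩ := exists_T0 P T q
  obtain ⟨E0, F0, B0, h0⟩ := h.exists_fr P hat
  have hm := (h.main P h2 h0 hq.symm).1
  have key : ∀ d ∈ F', ∀ b ∈ B, b • d ∈ E0 → d = 0 := by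
    intro d hd b hb h1
    have h3 := h0.smul b⁻¹
    refine h'.disj P h2 hf h3 ?_ hd ?_
    · intro h4
      apply hq
      have h5 : b • p = p := h.at' b (h.BT hb)
      rw [h4, smul_inv_smul] at h5
      rw [h5, ← h4]
    · rw [AddSubgroup.mem_pointwise_smul_iff_inv_smul_mem, inv_inv]
      exact h1
  intro d hd
  have hdE : d ∈ E := by
    by_contra hdE
    obtain ⟨b, hb, h1⟩ := h.exists_smul_mem P h2 h0 hq.symm hdE
    exact hdE (key d hd b hb h1 ▸ E.zero_mem)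
  by_contra hdF
  obtain ⟨b, hb, h1⟩ := h.exists_ne_one
  obtain ⟨i, hi, e, he, hie⟩ := h.exists_add P h2 h0 hq.symm hb h1 d
  obtain ⟨c, hc, h3⟩ := h.exists_dl h2 hm hb h1 hdE hdF hi
  refine hdF (key d hd c hc ?_ ▸ F.zero_mem)
  rw [smul_eq h2, h3, ← hie, add_comm, ← add_assoc, h2, zero_add]
  exact he

/-- (7) : `E` depends only on the point -/
theorem E_le' (P : Pts Y Ω) (h2 : ∀ v : V, v + v = 0) (hf : ∀ y : Y, (∀ v : V, y • v = v) → y = 1)
    (h : Fr a T p E F B) (h' : Fr a T' p E' F' B') : E ≤ E' := by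
  obtain ⟨q, hq⟩ := P.ne p
  obtain ⟨T0, hT0, hat⟩ := exists_T0 P T q
  obtain ⟨E0, F0, B0, h0⟩ := h.exists_fr P hat
  intro e he
  by_contra he'
  obtain ⟨φ, hφ, hne⟩ := exists_fn h2 E' he'
  have hφF : ∀ f ∈ F, φ f = 0 := fun f hfF => hφ f (h'.FE (h'.F_le P h2 hf h hfF))
  -- the functionals `v ↦ φ [v, b]` on `F_0`
  let η : AB B h.comm →+ (F0 →+ ZMod 2) :=
    AddMonoidHom.mk' (fun s => (φ.comp (dl s.v)).comp F0.subtype) (by
      intro s s'
      ext v
      change φ (dl (s + s').v v) = φ (dl s.v v) + φ (dl s'.v v)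
      rw [AB.v_add, dl_mul h2, map_add, map_add, hφF _ (h.dlF s.v_mem (h.dlE s'.v_mem _)), add_zero])
  have hη : ∀ (s : AB B h.comm) (v : F0), η s v = φ (dl s.v (v : V)) := fun _ _ => rfl
  have h3 : φ.comp F0.subtype ∈ η.range := by
    by_contra hcon
    obtain ⟨w, hw, hw1⟩ := exists_ev (W := F0) (fun w => Subtype.ext (h2 w)) η.range hcon
    have hw0 : (w : V) ≠ 0 := by
      intro h4
      apply hw1
      change φ (w : V) = 0
      rw [h4, map_zero]
    have hwE : (w : V) ∉ E := fun h4 => hw0 (h0.disj P h2 hf h hq w.2 h4)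
    obtain ⟨b, hb, h5⟩ := h.surj _ hwE e he
    have h6 := hw (η (AB.mk b hb)) ⟨_, rfl⟩
    rw [hη, AB.v_mk] at h6
    have h7 := hφF _ h5
    have h8 : φ (dl b (w : V)) + φ e = 0 := by
      rw [← map_add]
      exact h7
    rw [h6, zero_add] at h8
    exact hne h8
  obtain ⟨s, hs⟩ := h3
  have h4 : ∀ v ∈ F0, φ (s.v • v) = 0 := by
    intro v hv
    have h5 := DFunLike.congr_fun hs ⟨v, hv⟩
    rw [hη] at h5
    change φ (dl s.v v) = φ v at h5
    rw [smul_eq h2, map_add, h5]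
    exact CharTwo.add_self_eq_zero _
  -- the frame at `s • q`
  have h5 := h0.smul s.v
  have h6 : s.v • q ≠ p := smul_mem_of h.at' hq (h.BT s.v_mem)
  obtain ⟨x, hx, y, hy, hxy⟩ := h5.sum P h2 hf h' h6 e
  apply hne
  rw [← hxy, map_add, hφ y hy, add_zero]
  rw [AddSubgroup.mem_pointwise_smul_iff_inv_smul_mem] at hx
  have h7 := h4 _ hx
  rwa [smul_inv_smul] at h7

/-- (7) : `B` depends only on the point -/
theorem B_le (P : Pts Y Ω) (h2 : ∀ v : V, v + v = 0) (hf : ∀ y : Y, (∀ v : V, y • v = v) → y = 1)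
    (h : Fr a T p E F B) (h' : Fr a T' p E' F' B') : B' ≤ B := by
  have hE : E' = E := le_antisymm (h'.E_le' P h2 hf h) (h.E_le' P h2 hf h')
  have hF : F' = F := le_antisymm (h.F_le P h2 hf h') (h'.F_le P h2 hf h)
  subst hE hF
  let Q : Subgroup Y :=
    { carrier := {y | (∀ v, dl y v ∈ E') ∧ (∀ e ∈ E', dl y e ∈ F') ∧ ∀ f ∈ F', dl y f = 0}
      one_mem' := ⟨fun v => by rw [dl_one h2]; exact E'.zero_mem,
        fun e _ => by rw [dl_one h2]; exact F'.zero_mem, fun f _ => dl_one h2 f⟩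
      mul_mem' := by
        rintro x y ⟨x1, x2, x3⟩ ⟨y1, y2, y3⟩
        refine ⟨fun v => ?_, fun e he => ?_, fun f hfF => ?_⟩
        · rw [dl_mul h2]
          exact E'.add_mem (E'.add_mem (x1 v) (y1 v)) (x1 _)
        · rw [dl_mul h2]
          exact F'.add_mem (F'.add_mem (x2 e he) (y2 e he)) (x2 _ (y1 e))
        · rw [dl_mul h2, x3 f hfF, y3 f hfF, map_zero, add_zero, add_zero]
      inv_mem' := by
        rintro x ⟨x1, x2, x3⟩
        have k1 : ∀ v : V, dl x⁻¹ v = x⁻¹ • dl x v := fun v => by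
          rw [dl_apply, dl_apply, smul_add, inv_smul_smul, add_comm]
        have k3 : ∀ f ∈ F', x⁻¹ • f = f := fun f hfF => by
          rw [inv_smul_eq_iff, (dl_eq_zero h2).1 (x3 f hfF)]
        have k2 : ∀ e ∈ E', x⁻¹ • e ∈ E' := fun e he => by
          have h5 : x • e = e + dl x e := smul_eq h2 x e
          have h6 : e = x⁻¹ • e + x⁻¹ • dl x e := by
            rw [← smul_add, ← h5, inv_smul_smul]
          have h7 : x⁻¹ • e = e + dl x e := by
            rw [k3 _ (x2 e he)] at h6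
            calc x⁻¹ • e = x⁻¹ • e + (dl x e + dl x e) := by rw [h2, add_zero]
              _ = (x⁻¹ • e + dl x e) + dl x e := by abel
              _ = e + dl x e := by rw [← h6]
          rw [h7]
          exact E'.add_mem he (x1 e)
        refine ⟨fun v => ?_, fun e he => ?_, fun f hfF => ?_⟩
        · rw [k1]; exact k2 _ (x1 v)
        · rw [k1, k3 _ (x2 e he)]; exact x2 e he
        · rw [k1, x3 f hfF, smul_zero] }
  have hQm : ∀ y, y ∈ Q ↔ (∀ v, dl y v ∈ E') ∧ (∀ e ∈ E', dl y e ∈ F') ∧ ∀ f ∈ F', dl y f = 0 :=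
    fun _ => Iff.rfl
  have hQ2 : IsPGroup 2 Q := by
    rintro ⟨y, y1, y2, y3⟩
    refine ⟨2, Subtype.ext (hf _ fun v => ?_)⟩
    change (y ^ (2 ^ 2)) • v = v
    have e1 : ∀ v : V, dl (y * y) v = dl y (dl y v) := fun v => by
      rw [dl_mul h2, h2, zero_add]
    have e2 : y ^ (2 ^ 2) = (y * y) * (y * y) := by
      rw [show (2 : ℕ) ^ 2 = 2 + 2 from rfl, pow_add, pow_two]
    rw [← dl_eq_zero h2, e2, dl_mul h2, h2, zero_add, e1, e1, y3 _ (y2 _ (y1 v)), map_zero]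
  have hTQ : (T : Subgroup Y) ≤ normalizer (Q : Set Y) := by
    intro t ht
    have key : ∀ s ∈ T, ∀ y ∈ Q, s * y * s⁻¹ ∈ Q := by
      intro s hs y hy
      rw [hQm] at hy ⊢
      obtain ⟨y1, y2, y3⟩ := hy
      have k0 : ∀ v : V, dl (s * y * s⁻¹) v = s • dl y (s⁻¹ • v) := by
        intro v
        rw [dl_apply, dl_apply, smul_add, smul_inv_smul, mul_smul, mul_smul]
      refine ⟨fun v => ?_, fun e he => ?_, fun f hfF => ?_⟩
      · rw [k0]; exact h.smul_E P h2 hs (y1 _)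
      · rw [k0]; exact h.smul_F P h2 hf hs (y2 _ (h.smul_E P h2 (T.inv_mem hs) he))
      · rw [k0, y3 _ (h.smul_F P h2 hf (T.inv_mem hs) hfF), smul_zero]
    rw [Subgroup.mem_normalizer_iff]
    intro y
    refine ⟨key t ht y, fun h5 => ?_⟩
    have h6 := key t⁻¹ (T.inv_mem ht) _ h5
    rwa [show t⁻¹ * (t * y * t⁻¹) * t⁻¹⁻¹ = y by group] at h6
  have hsup : IsPGroup 2 ((T : Subgroup Y) ⊔ Q : Subgroup Y) := T.isPGroup'.to_sup_of_normal_right' hQ2 hTQ
  have hQT : Q ≤ T := by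
    have h5 := T.is_maximal' hsup le_sup_left
    exact le_sup_right.trans h5.le
  obtain ⟨z, hz, hz1, hzc⟩ := h.exists_center
  obtain ⟨q, hq⟩ := P.ne p
  obtain ⟨T0, hT0, hat⟩ := exists_T0 P T q
  obtain ⟨E0, F0, B0, h0⟩ := h.exists_fr P hat
  have hzB := h.center_le P h2 h0 hq.symm hz hzc
  intro b hb
  have hbQ : b ∈ Q := ⟨fun v => h'.dlE hb v, fun e he => h'.dlF hb he, fun f hfF => h'.dl0 h2 hb hfF⟩
  refine h.mem_B P h2 hf hzB hz1 hzc (hQT hbQ) hbQ.1 (fun e he => ?_)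
  rw [← h.F_eq P h2 hf hzB hz1]
  exact hbQ.2.1 e he

end Fr

end Cfsg.Agent.Omega.NO1.HE

end

section


/-!
# The coordinates of `V` at the end of (BT) (N1, text #17521 (8)-(11), helper438)

`V = X ⊕ M ⊕ D` (`X = D_0`, `D = D_∞`, `M = E_∞ ∩ E_0`), `B = B_∞` a root group (additive):
`x^b = x + τ b x + φ b x`, `m^b = m + l b m`, `d^b = d`.

* `Sys` : what the geometry gives ((8) and (9); `op` is the relation (R), inverse-free);
* `Fld` : output of (10) (Comm.lean): `B` is a 2-dimensional space over the field `k`, `X = k`, `M = B`, `D = k`,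
  `τ b x = x • b`, `l b m = f b m`, `f` a nondegenerate alternating form;
* `Coo` : output of (11) (Norm.lean): `B = M = K`, `X = D = Fix σ`, `τ b x = b x`, `l b m = Tr (b σ(m))`,
  `φ b x = N(b) x`.
-/

set_option autoImplicit false

namespace Cfsg.Agent.Omega.NO1.HE

universe u

/-- The data (8), (9). -/
structure Sys (B X M D : Type u) [AddCommGroup B] [AddCommGroup X] [AddCommGroup M] [AddCommGroup D] where
  τ : B →+ X →+ M
  l : B →+ M →+ D
  φ : B → X →+ D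
  twoB : ∀ b : B, b + b = 0
  twoX : ∀ x : X, x + x = 0
  twoM : ∀ m : M, m + m = 0
  twoD : ∀ d : D, d + d = 0
  φ_add : ∀ a b x, φ (a + b) x = φ a x + φ b x + l b (τ a x)
  lτ : ∀ b x, l b (τ b x) = 0
  τ_ne : ∀ b x, b ≠ 0 → x ≠ 0 → τ b x ≠ 0
  τ_surj : ∀ x, x ≠ 0 → ∀ m, ∃ b, τ b x = m
  φ_inj : ∀ b, b ≠ 0 → Function.Injective (φ b)
  φ_surj : ∀ b, b ≠ 0 → Function.Surjective (φ b)
  l_surj : ∀ b, b ≠ 0 → ∀ d, ∃ m, l b m = d
  l_ker : ∀ b m, b ≠ 0 → l b m = 0 → ∃ x, m = τ b x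
  l_surj' : ∀ m, m ≠ 0 → ∀ d, ∃ b, l b m = d
  /-- (R) : `c` corresponds to the sum of the elements of the opposite root group belonging to `a`, `b`. -/
  op : ∀ a b, a ≠ 0 → b ≠ 0 → a ≠ b → ∃ c, c ≠ 0 ∧
    (∀ x y, φ a x = φ b y → ∃ z, φ c z = φ a x ∧ τ c z = τ a x + τ b y ∧ φ b (z + x + y) = l b (τ a x)) ∧
    (∀ m x y, φ a x = l a m → φ b y = l b m → φ c (x + y) = l c m)
  /-- (9) : the stabiliser of two points is transitive on `B#`. -/
  trans : ∀ b1 b2, b1 ≠ 0 → b2 ≠ 0 → ∃ (hB : B ≃+ B) (hX : X ≃+ X) (hM : M ≃+ M) (hD : D ≃+ D),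
    (∀ b x, hM (τ b x) = τ (hB b) (hX x)) ∧ (∀ b m, hD (l b m) = l (hB b) (hM m)) ∧ hB b1 = b2
  ntX : ∃ x : X, x ≠ 0
  ntB : ∃ b : B, b ≠ 0

variable {B X M D : Type u} [AddCommGroup B] [AddCommGroup X] [AddCommGroup M] [AddCommGroup D]

/-- Output of (10) (Comm.lean). -/
structure Fld (S : Sys B X M D) (k : Type u) [Field k] [Module k B] where
  eX : X ≃+ k
  eM : M ≃+ B
  eD : D ≃+ k
  f : B → B → k
  hτ : ∀ b x, eM (S.τ b x) = eX x • b
  hl : ∀ b m, eD (S.l b m) = f b (eM m)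
  f_add : ∀ a b c, f (a + b) c = f a c + f b c
  f_smul : ∀ (r : k) b c, f (r • b) c = r * f b c
  f_self : ∀ b, f b b = 0
  f_symm : ∀ b c, f b c = f c b
  /-- the radical of `f b` is `k b` (so `dim B = 2` and `f` is nondegenerate) -/
  f_ker : ∀ b c, b ≠ 0 → f b c = 0 → ∃ r : k, c = r • b

/-- Output of (11) (Norm.lean). -/
structure Coo (S : Sys B X M D) (K : Type) [Field K] (σ : K ≃+* K) where
  eB : B ≃+ K
  eM : M ≃+ K
  eX : X →+ K
  eD : D →+ K
  eX_inj : Function.Injective eX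
  eD_inj : Function.Injective eD
  eX_fix : ∀ x, σ (eX x) = eX x
  eD_fix : ∀ d, σ (eD d) = eD d
  eX_surj : ∀ t, σ t = t → ∃ x, eX x = t
  eD_surj : ∀ t, σ t = t → ∃ d, eD d = t
  hτ : ∀ b x, eM (S.τ b x) = eB b * eX x
  hl : ∀ b m, eD (S.l b m) = eB b * σ (eM m) + σ (eB b) * eM m
  hφ : ∀ b x, eD (S.φ b x) = eB b * σ (eB b) * eX x

/-- (10), to be proved in Comm.lean. -/
def CommStmt : Prop :=
  ∀ (B X M D : Type u) [AddCommGroup B] [AddCommGroup X] [AddCommGroup M] [AddCommGroup D] [Finite B]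
    (S : Sys B X M D), ∃ (k : Type u) (_ : Field k) (_ : Finite k) (_ : Module k B), Nonempty (Fld S k)

/-- (11), to be proved in Norm.lean. -/
def NormStmt : Prop :=
  ∀ (B X M D : Type u) [AddCommGroup B] [AddCommGroup X] [AddCommGroup M] [AddCommGroup D] [Finite B]
    (S : Sys B X M D) (k : Type u) [Field k] [Finite k] [Module k B], Nonempty (Fld S k) →
    ∃ (K : Type) (_ : Field K) (_ : Finite K) (_ : CharP K 2) (σ : K ≃+* K), σ ≠ RingEquiv.refl K ∧
      (∀ x, σ (σ x) = x) ∧ Nat.card K = Nat.card k ^ 2 ∧ Nonempty (Coo S K σ)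

end Cfsg.Agent.Omega.NO1.HE

end
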