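import Cfsg.Agent.Mrg.Omega.NO1.HE.Base
import Cfsg.Agent.Mrg.Omega.NO1.Types
import Cfsg.Agent.Mrg.Omega.NO1.Cfg
import Cfsg.Agent.Mrg.Omega.NO1.HE.Coord
import Cfsg.Agent.Omega.NO1.HE.Trans

section


/-!
# The coordinates give the literal type `MinusQ` (N1, text #17521 (helper438), end)

* `Act S Y V` : `Y` acts on `V = X ⊕ M ⊕ D`, the elements `up b` (`b ∈ B`) of the root group `B_∞` act by
  `(x, m, d) ↦ (x, m + τ b x, d + l b m + φ b x)`, the elements `lo b` (`b ≠ 0`) of `B_0` by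
  `(x, m, d) ↦ (x + φ_b⁻¹ (l b m) + φ_b⁻¹ d, m + τ b (φ_b⁻¹ d), d)`; they generate a normal subgroup;
* `Act.exists_herm` : with `Coo S K σ`, `V` is the space of hermitian `2 × 2`-matrices over `K`;
* `Herm.minusQ` : the literal type `MinusQ`;
* `Act.ty` : `Ty S P`.
-/

set_option autoImplicit false

namespace Cfsg.Agent.Omega.NO1.HE

open Matrix Cfsg.Agent.ZN Cfsg.Agent.Omega.MinPar Cfsg.Agent.Omega.Frame

universe u

/-! ### generation of `SL₂` -/

section gen

variable {F : Type*} [Field F]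

/-- upper unitriangular -/
def up (t : F) : SpecialLinearGroup (Fin 2) F := ⟨!![1, t; 0, 1], by simp⟩

/-- lower unitriangular -/
def lo (t : F) : SpecialLinearGroup (Fin 2) F := ⟨!![1, 0; t, 1], by simp⟩

theorem lo_zero : (lo 0 : SpecialLinearGroup (Fin 2) F) = 1 := by
  apply Subtype.ext
  change !![(1 : F), 0; 0, 1] = 1
  exact Matrix.one_fin_two.symm

theorem sl_induction {Q : SpecialLinearGroup (Fin 2) F → Prop} (hu : ∀ a, Q (up a)) (hl : ∀ a, Q (lo a))
    (hmul : ∀ A B, Q A → Q B → Q (A * B)) (A : SpecialLinearGroup (Fin 2) F) : Q A := by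
  have key : ∀ g : SpecialLinearGroup (Fin 2) F, g.1 1 0 ≠ 0 → Q g := by
    intro g hc
    have hdet : g.1 0 0 * g.1 1 1 - g.1 0 1 * g.1 1 0 = 1 := by
      rw [← Matrix.det_fin_two]; exact g.2
    have : g = up ((g.1 0 0 - 1) / g.1 1 0) * lo (g.1 1 0) * up ((g.1 1 1 - 1) / g.1 1 0) := by
      apply Subtype.ext
      show g.1 = (up ((g.1 0 0 - 1) / g.1 1 0)).1 * (lo (g.1 1 0)).1 * (up ((g.1 1 1 - 1) / g.1 1 0)).1
      ext i j
      fin_cases i <;> fin_cases j
      · simp [up, lo, Matrix.mul_apply, Fin.sum_univ_two, hc]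
      · simp [up, lo, Matrix.mul_apply, Fin.sum_univ_two]
        field_simp
        linear_combination -hdet
      · simp [up, lo, Matrix.mul_apply, Fin.sum_univ_two]
      · simp [up, lo, Matrix.mul_apply, Fin.sum_univ_two]
        field_simp
        ring
    rw [this]
    exact hmul _ _ (hmul _ _ (hu _) (hl _)) (hu _)
  by_cases hc : A.1 1 0 = 0
  · have hdet : A.1 0 0 * A.1 1 1 - A.1 0 1 * A.1 1 0 = 1 := by
      rw [← Matrix.det_fin_two]; exact A.2
    have h0 : A.1 0 0 ≠ 0 := by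
      intro h0
      rw [h0, hc] at hdet
      simp at hdet
    have h1 : A = lo (-1) * (lo 1 * A) := by
      rw [← mul_assoc]
      have e : (lo (-1) * lo 1 : SpecialLinearGroup (Fin 2) F) = 1 := by
        apply Subtype.ext
        show (lo (-1) : SpecialLinearGroup (Fin 2) F).1 * (lo 1 : SpecialLinearGroup (Fin 2) F).1 = 1
        ext i j
        fin_cases i <;> fin_cases j <;> simp [lo, Matrix.mul_apply, Fin.sum_univ_two]
      rw [e, one_mul]
    rw [h1]
    refine hmul _ _ (hl _) (key _ ?_)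
    show ((lo 1 : SpecialLinearGroup (Fin 2) F).1 * A.1) 1 0 ≠ 0
    simp [lo, Matrix.mul_apply, Fin.sum_univ_two, hc, h0]
  · exact key A hc

end gen

/-! ### actions on hermitian matrices -/

/-- `y` acts as `X ↦ A X A^*`. -/
def Acts {Y V K : Type*} [Field K] [SMul Y V] (σ : K ≃+* K) (e : V → Matrix (Fin 2) (Fin 2) K) (y : Y)
    (A : Matrix (Fin 2) (Fin 2) K) : Prop :=
  ∀ v : V, e (y • v) = A * e v * (A.map σ).transpose

/-- `V` is the space of hermitian matrices, with a normal subgroup of `Y` inducing `SL₂(K)`. -/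
structure Herm (K : Type) [Field K] (σ : K ≃+* K) (Y V : Type u) [Group Y] [AddCommGroup V]
    [DistribMulAction Y V] where
  e : V → Matrix (Fin 2) (Fin 2) K
  add : ∀ v w, e (v + w) = e v + e w
  herm : ∀ v, ((e v).map σ).transpose = e v
  surj : ∀ X : Matrix (Fin 2) (Fin 2) K, (X.map σ).transpose = X → ∃ v, e v = X
  inj : ∀ v, e v = 0 → v = 0
  L : Subgroup Y
  normal : L.Normal
  up : ∀ a : K, ∃ y ∈ L, Acts σ e y (HE.up a).1
  lo : ∀ a : K, ∃ y ∈ L, Acts σ e y (HE.lo a).1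
  L_acts : ∀ y ∈ L, ∃ A : SpecialLinearGroup (Fin 2) K, Acts σ e y A.1

section acts

variable {Y V K : Type*} [Field K] [Group Y] [AddCommGroup V] [DistribMulAction Y V] {σ : K ≃+* K}
  {e : V → Matrix (Fin 2) (Fin 2) K}

theorem Acts.mul {y z : Y} {A B : Matrix (Fin 2) (Fin 2) K} (hy : Acts σ e y A) (hz : Acts σ e z B) :
    Acts σ e (y * z) (A * B) := by
  intro v
  rw [mul_smul, hy, hz, Matrix.map_mul, Matrix.transpose_mul]
  simp only [Matrix.mul_assoc]

theorem Acts.one : Acts σ e (1 : Y) (1 : Matrix (Fin 2) (Fin 2) K) := by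
  intro v
  rw [one_smul, Matrix.one_mul, Matrix.map_one σ (map_zero σ) (map_one σ), Matrix.transpose_one,
    Matrix.mul_one]

theorem Acts.inv {y : Y} {A : SpecialLinearGroup (Fin 2) K} (hy : Acts σ e y A.1) :
    Acts σ e y⁻¹ (A⁻¹ : SpecialLinearGroup (Fin 2) K).1 := by
  intro v
  have h1 := hy (y⁻¹ • v)
  rw [smul_inv_smul] at h1
  have h2 : (A⁻¹ : SpecialLinearGroup (Fin 2) K).1 * A.1 = 1 := by
    have := congrArg Subtype.val (inv_mul_cancel A)
    exact this
  have h3 : (A.1.map σ).transpose * ((A⁻¹ : SpecialLinearGroup (Fin 2) K).1.map σ).transpose = 1 := by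
    rw [← Matrix.transpose_mul, ← Matrix.map_mul, h2, Matrix.map_one σ (map_zero σ) (map_one σ),
      Matrix.transpose_one]
  rw [h1]
  calc e (y⁻¹ • v) = 1 * e (y⁻¹ • v) * 1 := by rw [Matrix.one_mul, Matrix.mul_one]
    _ = ((A⁻¹ : SpecialLinearGroup (Fin 2) K).1 * A.1) * e (y⁻¹ • v) *
        ((A.1.map σ).transpose * ((A⁻¹ : SpecialLinearGroup (Fin 2) K).1.map σ).transpose) := by
        rw [h2, h3]
    _ = _ := by simp only [Matrix.mul_assoc]

end acts

namespace Herm

variable {K : Type} [Field K] {σ : K ≃+* K} {Y V : Type u} [Group Y] [AddCommGroup V]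
  [DistribMulAction Y V] (H : Herm K σ Y V)
include H

theorem e_inj {v w : V} (h : H.e v = H.e w) : v = w := by
  have h1 : H.e (v - w) + H.e w = H.e w := by rw [← H.add, sub_add_cancel, h]
  have h2 : H.e (v - w) = 0 := by
    have := congrArg (fun X => X - H.e w) h1
    simpa using this
  exact sub_eq_zero.1 (H.inj _ h2)

theorem lift (A : SpecialLinearGroup (Fin 2) K) : ∃ y ∈ H.L, Acts σ H.e y A.1 := by
  refine sl_induction (Q := fun A => ∃ y ∈ H.L, Acts σ H.e y A.1) H.up H.lo ?_ A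
  rintro A B ⟨y, hy, hA⟩ ⟨z, hz, hB⟩
  exact ⟨y * z, mul_mem hy hz, hA.mul hB⟩

/-- **The literal type.** -/
theorem minusQ {G : Type u} [Group G] {S P W : Subgroup G} {T : Sylow 2 Y} {Mx : Subgroup Y}
    (R : Rep S P W Y V T Mx) : Nonempty (MinusQ K σ P W) := by
  classical
  let f : G → V := fun g => if h : ∃ m, R.el m = g then h.choose else 0
  have hf : ∀ m, f (R.el m) = m := by
    intro m
    have h1 : ∃ m', R.el m' = R.el m := ⟨m, rfl⟩
    have h2 : f (R.el m) = h1.choose := dif_pos h1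
    rw [h2]
    exact R.inj h1.choose_spec
  have hact : ∀ (p : P) (m : V), f (p * R.el m * (p : G)⁻¹) = R.ac p • m := by
    intro p m
    rw [← R.smul, hf]
  refine ⟨
    { e := fun g => H.e (f g)
      herm := fun v _ => H.herm _
      mul := ?_
      surj := ?_
      ker := ?_
      lift := ?_
      norm := ?_ }⟩
  · intro v hv w hw
    obtain ⟨a, rfl⟩ := R.surj v hv
    obtain ⟨b, rfl⟩ := R.surj w hw
    rw [← R.add, hf, hf, hf, H.add]
  · intro X hX
    obtain ⟨m, hm⟩ := H.surj X hX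
    exact ⟨R.el m, R.mem m, by rw [hf, hm]⟩
  · intro v hv h0
    obtain ⟨a, rfl⟩ := R.surj v hv
    rw [hf] at h0
    rw [H.inj a h0]
    have h1 := R.add 0 0
    rw [add_zero] at h1
    exact left_eq_mul.1 h1
  · intro A
    obtain ⟨y, -, hA⟩ := H.lift A
    obtain ⟨p, rfl⟩ := R.acs y
    refine ⟨p, p.2, fun v hv => ?_⟩
    obtain ⟨a, rfl⟩ := R.surj v hv
    rw [hact, hf]
    exact hA a
  · intro g hg h hh A hA
    have h1 : Acts σ H.e (R.ac ⟨h, hh⟩) A.1 := by
      intro m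
      have := hA (R.el m) (R.mem m)
      rw [hf, hact ⟨h, hh⟩] at this
      exact this
    obtain ⟨y, hy, hyA⟩ := H.lift A
    have h2 : R.ac ⟨h, hh⟩ = y := by
      have h3 : y⁻¹ * R.ac ⟨h, hh⟩ = 1 := by
        refine R.faith _ fun m => ?_
        rw [mul_smul, inv_smul_eq_iff]
        apply H.e_inj
        rw [h1, hyA]
      rw [inv_mul_eq_one] at h3
      exact h3.symm
    have h3 : R.ac ⟨g, hg⟩ * R.ac ⟨h, hh⟩ * (R.ac ⟨g, hg⟩)⁻¹ ∈ H.L := by
      rw [h2]
      exact H.normal.conj_mem y hy _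
    obtain ⟨B, hB⟩ := H.L_acts _ h3
    refine ⟨B, fun v hv => ?_⟩
    obtain ⟨a, rfl⟩ := R.surj v hv
    have h4 := hact (⟨g, hg⟩ * ⟨h, hh⟩ * ⟨g, hg⟩⁻¹) a
    have h5 : f (g * h * g⁻¹ * R.el a * (g * h * g⁻¹)⁻¹) =
        (R.ac ⟨g, hg⟩ * R.ac ⟨h, hh⟩ * (R.ac ⟨g, hg⟩)⁻¹) • a := by
      rw [← map_mul, ← map_inv, ← map_mul]
      exact h4
    change H.e (f (g * h * g⁻¹ * R.el a * (g * h * g⁻¹)⁻¹)) = B.1 * H.e (f (R.el a)) * _
    rw [h5, hf]
    exact hB a

end Herm

/-! ### coordinates -/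

section

variable {B X M D : Type u} [AddCommGroup B] [AddCommGroup X] [AddCommGroup M] [AddCommGroup D]

/-- `Y` acts on `V = X ⊕ M ⊕ D`; `up b` and `lo b` as in the text. -/
structure Act (S : Sys B X M D) (Y V : Type u) [Group Y] [AddCommGroup V] [DistribMulAction Y V] where
  dec : V ≃+ X × M × D
  L : Subgroup Y
  normal : L.Normal
  up : B → Y
  lo : B → Y
  gen : L = Subgroup.closure (Set.range up ∪ {y | ∃ b : B, b ≠ 0 ∧ y = lo b})
  up_act : ∀ b v, dec (up b • v) =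
    ((dec v).1, (dec v).2.1 + S.τ b (dec v).1, (dec v).2.2 + S.l b (dec v).2.1 + S.φ b (dec v).1)
  lo_act : ∀ b, b ≠ 0 → ∀ v x1 x2, S.φ b x1 = (dec v).2.2 → S.φ b x2 = S.l b (dec v).2.1 →
    dec (lo b • v) = ((dec v).1 + x2 + x1, (dec v).2.1 + S.τ b x1, (dec v).2.2)

variable {S : Sys B X M D} {Y V : Type u} [Group Y] [AddCommGroup V] [DistribMulAction Y V]
  {K : Type} [Field K] {σ : K ≃+* K}

theorem Act.exists_herm (A : Act S Y V) (hσ : ∀ x, σ (σ x) = x) (C : Coo S K σ) :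
    Nonempty (Herm K σ Y V) := by
  let e : V → Matrix (Fin 2) (Fin 2) K := fun v =>
    !![C.eD (A.dec v).2.2, C.eM (A.dec v).2.1; σ (C.eM (A.dec v).2.1), C.eX (A.dec v).1]
  have hup : ∀ b, Acts σ e (A.up b) (HE.up (C.eB b)).1 := by
    intro b v
    have h1 : e (A.up b • v) = !![C.eD (A.dec v).2.2 + (C.eB b * σ (C.eM (A.dec v).2.1) +
        σ (C.eB b) * C.eM (A.dec v).2.1) + C.eB b * σ (C.eB b) * C.eX (A.dec v).1,
        C.eM (A.dec v).2.1 + C.eB b * C.eX (A.dec v).1;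
        σ (C.eM (A.dec v).2.1 + C.eB b * C.eX (A.dec v).1), C.eX (A.dec v).1] := by
      change !![C.eD (A.dec (A.up b • v)).2.2, C.eM (A.dec (A.up b • v)).2.1;
        σ (C.eM (A.dec (A.up b • v)).2.1), C.eX (A.dec (A.up b • v)).1] = _
      rw [A.up_act]
      simp only [map_add, C.hτ, C.hl, C.hφ]
    rw [h1]
    ext i j
    fin_cases i <;> fin_cases j
    all_goals
      simp [e, HE.up, Matrix.mul_apply, Fin.sum_univ_two, C.eX_fix]
      try ring
  have hlo : ∀ b, b ≠ 0 → Acts σ e (A.lo b) (HE.lo (C.eB b)⁻¹).1 := by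
    intro b hb v
    obtain ⟨x1, hx1⟩ := S.φ_surj b hb (A.dec v).2.2
    obtain ⟨x2, hx2⟩ := S.φ_surj b hb (S.l b (A.dec v).2.1)
    have hβ : C.eB b ≠ 0 := by
      intro h0
      exact hb (C.eB.injective (by rw [h0, map_zero]))
    have hβ' : σ (C.eB b) ≠ 0 := by
      intro h0
      exact hβ (σ.injective (by rw [h0, map_zero]))
    have k1 := C.hφ b x1
    rw [hx1] at k1
    have k2 := C.hφ b x2
    rw [hx2, C.hl] at k2
    have e1 : C.eX x1 = (C.eB b)⁻¹ * (σ (C.eB b))⁻¹ * C.eD (A.dec v).2.2 := by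
      rw [k1]; field_simp
    have e2 : C.eX x2 = (C.eB b)⁻¹ * C.eM (A.dec v).2.1 + (σ (C.eB b))⁻¹ * σ (C.eM (A.dec v).2.1) := by
      have : C.eX x2 = (C.eB b)⁻¹ * (σ (C.eB b))⁻¹ * (C.eB b * σ (C.eB b) * C.eX x2) := by
        field_simp
      rw [this, ← k2]
      field_simp
      ring
    have h1 : e (A.lo b • v) = !![C.eD (A.dec v).2.2,
        C.eM (A.dec v).2.1 + C.eB b * C.eX x1;
        σ (C.eM (A.dec v).2.1 + C.eB b * C.eX x1), C.eX (A.dec v).1 + C.eX x2 + C.eX x1] := by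
      change !![C.eD (A.dec (A.lo b • v)).2.2, C.eM (A.dec (A.lo b • v)).2.1;
        σ (C.eM (A.dec (A.lo b • v)).2.1), C.eX (A.dec (A.lo b • v)).1] = _
      rw [A.lo_act b hb v x1 x2 hx1 hx2]
      simp only [map_add, C.hτ]
    rw [h1, e1, e2]
    ext i j
    fin_cases i <;> fin_cases j
    all_goals
      simp [e, HE.lo, Matrix.mul_apply, Fin.sum_univ_two, C.eD_fix, hσ]
      try field_simp
      try ring
  have hL : ∀ y ∈ A.L, ∃ T : SpecialLinearGroup (Fin 2) K, Acts σ e y T.1 := by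
    intro y hy
    rw [A.gen] at hy
    refine Subgroup.closure_induction (p := fun y _ => ∃ T : SpecialLinearGroup (Fin 2) K, Acts σ e y T.1)
      ?_ ?_ ?_ ?_ hy
    · rintro y (⟨b, rfl⟩ | ⟨b, hb, rfl⟩)
      · exact ⟨_, hup b⟩
      · exact ⟨_, hlo b hb⟩
    · exact ⟨1, Acts.one⟩
    · rintro y z - - ⟨T, hT⟩ ⟨T', hT'⟩
      exact ⟨T * T', hT.mul hT'⟩
    · rintro y - ⟨T, hT⟩
      exact ⟨T⁻¹, hT.inv⟩
  refine ⟨
    { e := e
      add := ?_
      herm := ?_
      surj := ?_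
      inj := ?_
      L := A.L
      normal := A.normal
      up := ?_
      lo := ?_
      L_acts := hL }⟩
  · intro v w
    ext i j
    fin_cases i <;> fin_cases j <;> simp [e]
  · intro v
    ext i j
    fin_cases i <;> fin_cases j <;> simp [e, C.eX_fix, C.eD_fix, hσ]
  · intro Z hZ
    have h00 : σ (Z 0 0) = Z 0 0 := congrFun (congrFun hZ 0) 0
    have h11 : σ (Z 1 1) = Z 1 1 := congrFun (congrFun hZ 1) 1
    have h10 : σ (Z 0 1) = Z 1 0 := congrFun (congrFun hZ 1) 0
    obtain ⟨x, hx⟩ := C.eX_surj _ h11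
    obtain ⟨d, hd⟩ := C.eD_surj _ h00
    refine ⟨A.dec.symm (x, C.eM.symm (Z 0 1), d), ?_⟩
    ext i j
    fin_cases i <;> fin_cases j <;> simp [e, hx, hd, h10]
  · intro v hv
    have h00 : C.eD (A.dec v).2.2 = 0 := congrFun (congrFun hv 0) 0
    have h01 : C.eM (A.dec v).2.1 = 0 := congrFun (congrFun hv 0) 1
    have h11 : C.eX (A.dec v).1 = 0 := congrFun (congrFun hv 1) 1
    have k1 : (A.dec v).2.2 = 0 := C.eD_inj (by rw [h00, map_zero])
    have k2 : (A.dec v).2.1 = 0 := C.eM.injective (by rw [h01, map_zero])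
    have k3 : (A.dec v).1 = 0 := C.eX_inj (by rw [h11, map_zero])
    apply A.dec.injective
    rw [map_zero]
    exact Prod.ext k3 (Prod.ext k2 k1)
  · intro a
    refine ⟨A.up (C.eB.symm a), ?_, ?_⟩
    · rw [A.gen]
      exact Subgroup.subset_closure (Or.inl ⟨_, rfl⟩)
    · have := hup (C.eB.symm a)
      rwa [AddEquiv.apply_symm_apply] at this
  · intro a
    by_cases ha : a = 0
    · subst ha
      refine ⟨1, one_mem _, ?_⟩
      rw [lo_zero]
      exact Acts.one
    · have hb : C.eB.symm a⁻¹ ≠ 0 := by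
        intro h0
        have := congrArg C.eB h0
        rw [AddEquiv.apply_symm_apply, map_zero] at this
        exact inv_ne_zero ha this
      refine ⟨A.lo (C.eB.symm a⁻¹), ?_, ?_⟩
      · rw [A.gen]
        exact Subgroup.subset_closure (Or.inr ⟨_, hb, rfl⟩)
      · have := hlo _ hb
        rwa [AddEquiv.apply_symm_apply, inv_inv] at this

/-- **The end of the minus case**: the coordinates give the literal type. -/
theorem Act.ty (h10 : CommStmt.{u}) (h11 : NormStmt.{u}) [Finite B] (A : Act S Y V) (h4 : 4 ≤ Nat.card X)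
    {G : Type u} [Group G] {S₀ P : Subgroup G} {T : Sylow 2 Y} {Mx : Subgroup Y}
    (R : Rep S₀ P (zl S₀ P) Y V T Mx) : Ty S₀ P := by
  obtain ⟨k, _, _, _, ⟨f⟩⟩ := h10 B X M D S
  obtain ⟨K, _, _, _, σ, h1, h2, h3, ⟨C⟩⟩ := h11 B X M D S k ⟨f⟩
  obtain ⟨H⟩ := A.exists_herm h2 C
  refine Ty.minusQ K σ h1 h2 ?_ (H.minusQ R)
  have e : Nat.card X = Nat.card k := Nat.card_congr f.eX.toEquiv
  rw [h3, ← e]
  nlinarith

end

end Cfsg.Agent.Omega.NO1.HE

end

section


/-!
# The end of (BT): the system (8), (9) of #17521 and the action (N1, helper438)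
-/

set_option autoImplicit false
set_option linter.unusedSectionVars false

namespace Cfsg.Agent.Omega.NO1.HE

open Subgroup
open scoped Pointwise

universe u

variable {Y : Type u} [Group Y] [Finite Y] {V : Type u} [AddCommGroup V] [Finite V] [DistribMulAction Y V]
  {Ω : Type u} [MulAction Y Ω]

/-- the action of `g` on an invariant subgroup -/
def smulEquiv (W : AddSubgroup V) (g : Y) (h : ∀ w ∈ W, g • w ∈ W) (h' : ∀ w ∈ W, g⁻¹ • w ∈ W) : W ≃+ W where
  toFun w := ⟨g • (w : V), h w w.2⟩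
  invFun w := ⟨g⁻¹ • (w : V), h' w w.2⟩
  left_inv w := Subtype.ext (inv_smul_smul g (w : V))
  right_inv w := Subtype.ext (smul_inv_smul g (w : V))
  map_add' v w := Subtype.ext (smul_add g (v : V) (w : V))

theorem dl_conj (g b : Y) (v : V) : dl (g * b * g⁻¹) (g • v) = g • dl b v := by
  rw [dl_apply, dl_apply, smul_add, ← mul_smul, ← mul_smul]
  congr 2
  group

namespace Geo

variable {a : ℕ} (G : Geo a Y V Ω) {p q : Ω}

theorem op (hpq : p ≠ q) (s t : G.BB p) (hs : s ≠ 0) (ht : t ≠ 0) (hst : s ≠ t) : ∃ c : G.BB p, c ≠ 0 ∧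
    (∀ x y, G.phi hpq s x = G.phi hpq t y → ∃ z, G.phi hpq c z = G.phi hpq s x ∧
      G.tau hpq c z = G.tau hpq s x + G.tau hpq t y ∧
      G.phi hpq t (z + x + y) = G.ell hpq t (G.tau hpq s x)) ∧
    (∀ m x y, G.phi hpq s x = G.ell hpq s m → G.phi hpq t y = G.ell hpq t m →
      G.phi hpq c (x + y) = G.ell hpq c m) := by
  obtain ⟨α, hα, hαp⟩ := G.exists_opp s.v_mem (G.v_ne hs) hpq
  obtain ⟨β, hβ, hβp⟩ := G.exists_opp t.v_mem (G.v_ne ht) hpq
  have hγ : α * β ∈ G.B q := (G.B q).mul_mem hα hβ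
  have hγ1 : α * β ≠ 1 := by
    intro h1
    have h3 : α = β := by
      have h4 := (G.fr q).sq β hβ
      exact mul_right_cancel (h1.trans h4.symm)
    have h5 : s.v • q = t.v • q := by rw [← hαp, ← hβp, h3]
    have h6 : (s + t).v • q = q := by
      rw [AB.v_add, mul_smul, ← h5, ← mul_smul, (G.fr p).sq s.v s.v_mem, one_smul]
    have h7 : s + t ≠ 0 := fun h8 => hst ((add_eq_zero' (AB.two (G.fr p).sq)).1 h8)
    exact hpq (G.free (s + t).v_mem (G.v_ne h7) h6).symm
  have hγq : (α * β) • p ≠ q := by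
    intro h1
    have h3 : (α * β) • q = q := G.fix hγ
    exact hpq (smul_left_cancel _ (h1.trans h3.symm))
  have hγp : (α * β) • p ≠ p := fun h1 => hpq (G.free hγ hγ1 h1)
  obtain ⟨c, hc, hcq⟩ := G.exists_B hpq.symm hγp
  have hc1 : c ≠ 1 := by
    rintro rfl
    rw [one_smul] at hcq
    exact hγq hcq.symm
  have hc0 : (AB.mk c hc : G.BB p) ≠ 0 := fun h => hc1 (congrArg AB.v h)
  refine ⟨AB.mk c hc, hc0, ?_, ?_⟩
  · intro x y hxy
    obtain ⟨z, hz⟩ := G.phi_surj hpq hc0 (G.phi hpq s x)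
    obtain ⟨x', hx'⟩ := G.phi_surj hpq ht (G.ell hpq t (G.tau hpq s x))
    have e1 := G.opp_X hpq hα hαp x
    have e2 := G.opp_X hpq hβ hβp y
    have e3 := G.opp_X hpq (b := AB.mk c hc) hγ hcq.symm z
    have e4 := G.opp_M hpq hβ hβp (G.tau hpq s x) hx' ht
    rw [hz, (G.fr q).comm α hα β hβ, mul_smul, e1, G.smul_X hpq, G.smul_X hpq, smul_add, smul_add,
      hxy, e2, G.smul_X hpq, smul_eq G.two β (G.tau hpq s x : V), e4, hz] at e3
    have e5 : β • (x : V) = x := (dl_eq_zero G.two).1 (G.dl0 hβ x.2)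
    rw [e5] at e3
    have e6 := G.dec_eq hpq (v := (x : V) + ((G.tau hpq s x : V) + (x' : V) +
      ((y : V) + ((G.tau hpq t y : V) + (G.phi hpq t y : V))))) ((x + x' + y).2)
      ((G.tau hpq s x + G.tau hpq t y).2) ((G.phi hpq t y).2) (by
        rw [AddSubgroup.coe_add, AddSubgroup.coe_add, AddSubgroup.coe_add]
        abel)
    have e7 := G.dec_eq hpq (v := (x : V) + ((G.tau hpq s x : V) + (x' : V) +
      ((y : V) + ((G.tau hpq t y : V) + (G.phi hpq t y : V))))) z.2 (G.tau hpq (AB.mk c hc) z).2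
      ((G.phi hpq s x).2) (by rw [e3])
    rw [e6] at e7
    have e8 := congrArg (fun t => t.1) e7
    have e9 := congrArg (fun t => t.2.1) e7
    have e10 : x + x' + y = z := Subtype.ext (congrArg Subtype.val e8)
    refine ⟨z, hz, (Subtype.ext (congrArg Subtype.val e9)).symm, ?_⟩
    rw [← hx']
    congr 1
    have e11 := fun w : G.F q => (Subtype.ext (G.two w) : w + w = 0)
    rw [← e10]
    calc x + x' + y + x + y = x' + ((x + x) + (y + y)) := by abel
      _ = x' := by rw [e11, e11, add_zero, add_zero]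
  · intro m x y hx hy
    obtain ⟨w, hw⟩ := G.phi_surj hpq hc0 (G.ell hpq (AB.mk c hc) m)
    have e1 := G.opp_M hpq hα hαp m hx hs
    have e2 := G.opp_M hpq hβ hβp m hy ht
    have e3 := G.opp_M hpq (b := AB.mk c hc) hγ hcq.symm m hw hc0
    rw [dl_mul G.two, e1, e2, G.dl0 hα y.2, add_zero] at e3
    have e4 : x + y = w := Subtype.ext e3
    rw [e4, hw]

theorem trans (hpq : p ≠ q) (b1 b2 : G.BB p) (h1 : b1 ≠ 0) (h2 : b2 ≠ 0) :
    ∃ (hB : G.BB p ≃+ G.BB p) (hX : G.F q ≃+ G.F q) (hM : G.M p q ≃+ G.M p q) (hD : G.F p ≃+ G.F p),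
      (∀ b x, hM (G.tau hpq b x) = G.tau hpq (hB b) (hX x)) ∧
      (∀ b m, hD (G.ell hpq b m) = G.ell hpq (hB b) (hM m)) ∧ hB b1 = b2 := by
  obtain ⟨g, gp, gq, hg⟩ := Trans.exists_conj (R := G.B) (fun y r => (G.smulB y r).symm)
    (fun r b hb hb1 s hs => G.free hb hb1 hs) (fun r b hb => G.fix hb) (fun r => (G.fr r).sq)
    (fun r => (G.fr r).comm) (fun r s t hs ht => G.exists_B hs ht) p q hpq b1.v b1.v_mem b2.v b2.v_mem
    (G.v_ne h1) (G.v_ne h2)
  have gp' : g⁻¹ • p = p := by rw [inv_smul_eq_iff, gp]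
  have gq' : g⁻¹ • q = q := by rw [inv_smul_eq_iff, gq]
  have mE : ∀ {y : Y} {r : Ω}, y • r = r → ∀ v ∈ G.E r, y • v ∈ G.E r := fun {y r} hy v hv => by
    have := G.smul_memE (y := y) hv
    rwa [hy] at this
  have mF : ∀ {y : Y} {r : Ω}, y • r = r → ∀ v ∈ G.F r, y • v ∈ G.F r := fun {y r} hy v hv => by
    have := G.smul_memF (y := y) hv
    rwa [hy] at this
  have mB : ∀ {y : Y}, y • p = p → ∀ b ∈ G.B p, y * b * y⁻¹ ∈ G.B p := fun {y} hy b hb => by
    have := G.conj_memB (y := y) hb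
    rwa [hy] at this
  let hB : G.BB p ≃+ G.BB p :=
    { toFun := fun b => AB.mk (g * b.v * g⁻¹) (mB gp b.v b.v_mem)
      invFun := fun b => AB.mk (g⁻¹ * b.v * g⁻¹⁻¹) (mB gp' b.v b.v_mem)
      left_inv := fun b => AB.ext (by rw [AB.v_mk, AB.v_mk]; group)
      right_inv := fun b => AB.ext (by rw [AB.v_mk, AB.v_mk]; group)
      map_add' := fun b c => AB.ext (by rw [AB.v_mk, AB.v_add, AB.v_add, AB.v_mk, AB.v_mk]; group) }
  have hBv : ∀ b, (hB b).v = g * b.v * g⁻¹ := fun _ => rfl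
  let hX := smulEquiv (G.F q) g (mF gq) (mF gq')
  let hM := smulEquiv (G.M p q) g (fun v hv => ⟨mE gp v hv.1, mE gq v hv.2⟩)
    (fun v hv => ⟨mE gp' v hv.1, mE gq' v hv.2⟩)
  let hD := smulEquiv (G.F p) g (mF gp) (mF gp')
  have cX : ∀ x, (hX x : V) = g • (x : V) := fun _ => rfl
  have cM : ∀ x, (hM x : V) = g • (x : V) := fun _ => rfl
  have cD : ∀ x, (hD x : V) = g • (x : V) := fun _ => rfl
  refine ⟨hB, hX, hM, hD, ?_, ?_, ?_⟩
  · intro b x
    rw [G.tau_apply hpq (hB b) (hX x), hBv, cX, dl_conj, G.dl_X hpq, smul_add, map_add]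
    have e1 : g • (G.tau hpq b x : V) ∈ G.M p q := (hM (G.tau hpq b x)).2
    rw [G.pM_M hpq e1, G.pM_F hpq (mF gp _ (G.phi hpq b x).2), add_zero]
    rfl
  · intro b m
    refine Subtype.ext ?_
    rw [G.coe_ell hpq, hBv, cM, cD, dl_conj, G.coe_ell hpq]
  · exact AB.ext hg

/-- the system (8), (9) -/
noncomputable def sys (hpq : p ≠ q) : Sys (G.BB p) (G.F q) (G.M p q) (G.F p) where
  τ := G.tau hpq
  l := G.ell hpq
  φ := G.phi hpq
  twoB := AB.two (G.fr p).sq
  twoX := fun x => Subtype.ext (G.two x)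
  twoM := fun x => Subtype.ext (G.two x)
  twoD := fun x => Subtype.ext (G.two x)
  φ_add := by
    intro b c x
    rw [add_comm b c]
    refine Subtype.ext ?_
    have e1 : dl c.v (dl b.v (x : V)) = (G.ell hpq c (G.tau hpq b x) : V) := by
      rw [G.dl_X hpq, map_add, G.dl0 c.v_mem (G.phi hpq b x).2, add_zero, G.coe_ell hpq]
    have e2 : G.phi hpq (c + b) x = G.phi hpq c x + G.phi hpq b x + G.ell hpq c (G.tau hpq b x) := by
      rw [phi_apply, AB.v_add, dl_mul G.two, map_add, map_add, e1, G.pD_F hpq (G.ell hpq c _).2]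
      rfl
    rw [e2, add_comm (G.phi hpq c x)]
  lτ := G.ell_tau hpq
  τ_ne := fun b x hb hx => G.tau_ne hpq hb hx
  τ_surj := fun x hx m => G.tau_surj hpq hx m
  φ_inj := fun b hb => G.phi_inj hpq hb
  φ_surj := fun b hb => G.phi_surj hpq hb
  l_surj := fun b hb d => G.ell_surj hpq hb d
  l_ker := fun b m hb hm => G.ell_ker hpq hb hm
  l_surj' := fun m hm d => G.ell_surj' hpq hm d
  op := G.op hpq
  trans := G.trans hpq
  ntX := by
    obtain ⟨x, hx⟩ := (G.fr q).ne'
    obtain ⟨b, hb, e, he, hne⟩ := (G.fr q).exists_dl_ne G.two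
    exact ⟨⟨_, G.dlF hb he⟩, fun h => hne (congrArg Subtype.val h)⟩
  ntB := G.exists_b

/-- `α` with `∞^α = 0^b` -/
theorem exists_lo (hpq : p ≠ q) (b : G.BB p) : ∃ c : Y, c ∈ G.B q ∧ (b ≠ 0 → c • p = b.v • q) := by
  by_cases hb : b = 0
  · exact ⟨1, (G.B q).one_mem, fun h => absurd hb h⟩
  · obtain ⟨c, hc, h⟩ := G.exists_opp b.v_mem (G.v_ne hb) hpq
    exact ⟨c, hc, fun _ => h⟩

noncomputable def lo (hpq : p ≠ q) (b : G.BB p) : Y := (G.exists_lo hpq b).choose

theorem lo_mem (hpq : p ≠ q) (b : G.BB p) : G.lo hpq b ∈ G.B q := (G.exists_lo hpq b).choose_spec.1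

theorem lo_smul (hpq : p ≠ q) {b : G.BB p} (hb : b ≠ 0) : G.lo hpq b • p = b.v • q :=
  (G.exists_lo hpq b).choose_spec.2 hb

/-- the generators -/
def gens (hpq : p ≠ q) : Set Y :=
  Set.range (fun b : G.BB p => b.v) ∪ {y | ∃ b : G.BB p, b ≠ 0 ∧ y = G.lo hpq b}

theorem B_le_gens (hpq : p ≠ q) (r : Ω) : G.B r ≤ closure (G.gens hpq) := by
  have hp : G.B p ≤ closure (G.gens hpq) := fun b hb =>
    subset_closure (Or.inl ⟨AB.mk b hb, rfl⟩)
  have hq : G.B q ≤ closure (G.gens hpq) := by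
    intro c hc
    by_cases hc1 : c = 1
    · rw [hc1]; exact one_mem _
    have h1 : c • p ≠ p := fun h => hpq (G.free hc hc1 h)
    obtain ⟨b, hb, hbq⟩ := G.exists_B hpq.symm h1
    have hb1 : b ≠ 1 := by
      rintro rfl
      rw [one_smul] at hbq
      have h3 : c • q = q := G.fix hc
      exact hpq (smul_left_cancel c (hbq.symm.trans h3.symm))
    have hb0 : (AB.mk b hb : G.BB p) ≠ 0 := fun h => hb1 (congrArg AB.v h)
    refine subset_closure (Or.inr ⟨AB.mk b hb, hb0, ?_⟩)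
    have h3 := G.lo_smul hpq hb0
    rw [AB.v_mk, hbq] at h3
    by_contra hne
    have h4 : (G.lo hpq (AB.mk b hb))⁻¹ * c ≠ 1 := fun h => hne (by
      rw [inv_mul_eq_one] at h; exact h.symm)
    refine hpq (G.free (r := p) ((G.B q).mul_mem ((G.B q).inv_mem (G.lo_mem hpq _)) hc) h4 ?_)
    rw [mul_smul, inv_smul_eq_iff, h3]
  by_cases hr : r = p
  · rw [hr]; exact hp
  · obtain ⟨b, hb, hbq⟩ := G.exists_B hpq.symm hr
    rw [← hbq, ← G.smulB]
    intro y hy
    rw [mem_conj] at hy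
    have h1 : y = b * (b⁻¹ * y * b) * b⁻¹ := by group
    rw [h1]
    exact mul_mem (mul_mem (hp hb) (hq hy)) (inv_mem (hp hb))

theorem gens_normal (hpq : p ≠ q) : (closure (G.gens hpq)).Normal := by
  have h1 : closure (G.gens hpq) = normalClosure ((G.B p : Set Y) ∪ G.B q) := by
    apply le_antisymm
    · rw [closure_le]
      rintro y (⟨b, rfl⟩ | ⟨b, hb, rfl⟩)
      · exact subset_normalClosure (Or.inl b.v_mem)
      · exact subset_normalClosure (Or.inr (G.lo_mem hpq b))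
    · refine (closure_le _).2 ?_
      intro y hy
      obtain ⟨x, hx, hxy⟩ := Group.mem_conjugatesOfSet_iff.1 hy
      obtain ⟨g, rfl⟩ := isConj_iff.1 hxy
      rcases hx with hx | hx
      · exact G.B_le_gens hpq _ (G.conj_memB hx)
      · exact G.B_le_gens hpq _ (G.conj_memB hx)
  rw [h1]
  exact normalClosure_normal

/-- the action -/
noncomputable def act (hpq : p ≠ q) : Act (G.sys hpq) Y V where
  dec := G.dec hpq
  L := closure (G.gens hpq)
  normal := G.gens_normal hpq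
  up := fun b => b.v
  lo := G.lo hpq
  gen := rfl
  up_act := by
    intro b v
    have h1 := G.dec_spec hpq v
    set x := (G.dec hpq v).1
    set m := (G.dec hpq v).2.1
    set d := (G.dec hpq v).2.2
    refine G.dec_eq hpq x.2 (m + G.tau hpq b x).2 (d + G.ell hpq b m + G.phi hpq b x).2 ?_
    rw [← h1, smul_add, smul_add, G.smul_X hpq, G.smul_M hpq, G.smul_D b d, AddSubgroup.coe_add,
      AddSubgroup.coe_add, AddSubgroup.coe_add]
    abel
  lo_act := by
    intro b hb v x1 x2 h1 h2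
    have h3 := G.dec_spec hpq v
    set x := (G.dec hpq v).1
    set m := (G.dec hpq v).2.1
    set d := (G.dec hpq v).2.2
    refine G.dec_eq hpq (x + x2 + x1).2 (m + G.tau hpq b x1).2 d.2 ?_
    have e1 := G.opp_X hpq (G.lo_mem hpq b) (G.lo_smul hpq hb) x1
    have e2 := G.opp_M hpq (G.lo_mem hpq b) (G.lo_smul hpq hb) m h2 hb
    have e3 : G.lo hpq b • (x : V) = x := (dl_eq_zero G.two).1 (G.dl0 (G.lo_mem hpq b) x.2)
    have h1' : G.phi hpq b x1 = d := h1
    rw [h1', G.smul_X hpq, h1'] at e1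
    rw [← h3, smul_add, smul_add, e3, smul_eq G.two _ (m : V), e2, e1, AddSubgroup.coe_add,
      AddSubgroup.coe_add, AddSubgroup.coe_add]
    abel

end Geo

end Cfsg.Agent.Omega.NO1.HE

end

section


/-!
# N1, (+) ⟹ MinusQ, step (10): commutativity (helper438, #17521)

`Cm τ l`: `τ : B × W → M`, `l : B × M → D` biadditive on elementary abelian 2-groups, `l b (τ b w) = 0`, `τ b w ≠ 0` for
`b, w ≠ 0`, `{l b m : b ∈ B} = D` for `m ≠ 0`, `|B| = |M| = |W|²`, `|D| = |W|`, and a group of automorphisms is transitive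
on `B#`.

* `main`: there are a finite field `K` of order `|W|` and coordinates `W ≃ K`, `D ≃ K`, `B ≃ K²`, `M ≃ K²` such that
  `τ b w = w • b`, `l b m = det (m, b)`.
-/

set_option autoImplicit false
set_option linter.unusedSectionVars false

namespace Cfsg.Agent.Omega.NO1.HE.Comm

/-! ### functionals -/

section hom

variable {X : Type*} [AddCommGroup X] [Finite X]

theorem finite_hom {Y : Type*} [AddCommGroup Y] [Finite Y] : Finite (X →+ Y) :=
  Finite.of_injective (fun f : X →+ Y => (f : X → Y)) DFunLike.coe_injective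

theorem card_hom (h2 : ∀ x : X, x + x = 0) : Nat.card (X →+ ZMod 2) = Nat.card X := by
  let _ : Module (ZMod 2) X := AddCommGroup.zmodModule (n := 2) (fun x => by rw [two_nsmul]; exact h2 x)
  have e : (X →+ ZMod 2) ≃ Module.Dual (ZMod 2) X :=
    { toFun := fun f => f.toZModLinearMap 2
      invFun := fun f => f.toAddMonoidHom
      left_inv := fun f => by ext; rfl
      right_inv := fun f => by ext; rfl }
  rw [Nat.card_congr e, Module.natCard_eq_pow_finrank (K := ZMod 2) (V := Module.Dual (ZMod 2) X),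
    Subspace.dual_finrank_eq, ← Module.natCard_eq_pow_finrank]

theorem exists_hom (h2 : ∀ x : X, x + x = 0) {x : X} (hx : x ≠ 0) : ∃ f : X →+ ZMod 2, f x ≠ 0 := by
  let _ : Module (ZMod 2) X := AddCommGroup.zmodModule (n := 2) (fun x => by rw [two_nsmul]; exact h2 x)
  by_contra hcon
  push Not at hcon
  apply hx
  rw [← Module.forall_dual_apply_eq_zero_iff (ZMod 2) x]
  intro f
  exact hcon f.toAddMonoidHom

theorem eq_of_add {x y : X} (h2 : ∀ x : X, x + x = 0) (h : x + y = 0) : x = y :=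
  add_right_cancel (h.trans (h2 y).symm)

end hom

section sg

variable {W B D : Type*} [AddCommGroup W] [AddCommGroup B] [AddCommGroup D] [Finite W] [Finite B] [Finite D]

theorem add_ap (f g : AddMonoid.End B) (b : B) : (f + g) b = f b + g b := rfl

theorem zero_ap (b : B) : (0 : AddMonoid.End B) b = 0 := rfl

/-- `sg w = θ_{w₀}⁻¹ θ_w`, `be b b' = λ_{b'} τ_b w₀` -/
structure Sg (sg : W →+ AddMonoid.End B) (be : B →+ B →+ D) : Prop where
  B2 : ∀ b : B, b + b = 0
  D2 : ∀ d : D, d + d = 0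
  one : ∃ w₀, sg w₀ = 1
  inj : ∀ w b, sg w b = 0 → w = 0 ∨ b = 0
  alt : ∀ w b, be (sg w b) b = 0
  onto : ∀ b, b ≠ 0 → ∀ d, ∃ b', be b b' = d
  cardB : Nat.card B = Nat.card W * Nat.card W
  cardD : Nat.card D = Nat.card W
  nt : 1 < Nat.card W
  trans : ∀ b b' : B, b ≠ 0 → b' ≠ 0 → ∃ (gB gT : B ≃+ B) (gW : W ≃+ W), gB b = b' ∧
    ∀ x w, gT (sg w x) = sg (gW w) (gB x)

/-- `w ↦ sg w b` -/
def so (sg : W →+ AddMonoid.End B) (b : B) : W →+ B where
  toFun w := sg w b
  map_zero' := by rw [map_zero]; rfl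
  map_add' w w' := by rw [map_add]; rfl

/-- the orbit `𝒮 b` -/
def SS (sg : W →+ AddMonoid.End B) (b : B) : AddSubgroup B := (so sg b).range

theorem mem_SS {sg : W →+ AddMonoid.End B} {b x : B} : x ∈ SS sg b ↔ ∃ w, sg w b = x := Iff.rfl

namespace Sg

variable {sg : W →+ AddMonoid.End B} {be : B →+ B →+ D} (h : Sg sg be)

include h

theorem symm' (w : W) (b b' : B) : be (sg w b) b' = be (sg w b') b := by
  have h1 := h.alt w (b + b')
  rw [map_add (sg w), map_add be, AddMonoidHom.add_apply, map_add, map_add, h.alt, h.alt, zero_add, add_zero] at h1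
  exact eq_of_add h.D2 h1

theorem symm (b b' : B) : be b b' = be b' b := by
  obtain ⟨w₀, hw⟩ := h.one
  have h1 := h.symm' w₀ b b'
  rw [hw] at h1
  exact h1

theorem adj (w : W) (b b' : B) : be (sg w b) b' = be b (sg w b') := by rw [h.symm', h.symm]

theorem self (b : B) : be b b = 0 := by
  obtain ⟨w₀, hw⟩ := h.one
  have h1 := h.alt w₀ b
  rw [hw] at h1
  exact h1

theorem mem_self (b : B) : b ∈ SS sg b := by
  obtain ⟨w₀, hw⟩ := h.one
  exact ⟨w₀, by show sg w₀ b = b; rw [hw]; rfl⟩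

theorem so_inj {b : B} (hb : b ≠ 0) : Function.Injective (so sg b) := by
  rw [injective_iff_map_eq_zero]
  intro w hw
  exact (h.inj w b hw).resolve_right hb

theorem card_SS {b : B} (hb : b ≠ 0) : Nat.card (SS sg b) = Nat.card W :=
  (Nat.card_congr (AddMonoidHom.ofInjective (h.so_inj hb)).toEquiv).symm

theorem mem_iff {b x : B} (hb : b ≠ 0) : x ∈ SS sg b ↔ be b x = 0 := by
  have hpos : 0 < Nat.card W := Nat.card_pos
  have hle : SS sg b ≤ (be b).ker := by
    rintro _ ⟨w, rfl⟩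
    show be b (sg w b) = 0
    rw [← h.adj, h.alt]
  have hr : (be b).range = ⊤ := by
    rw [AddMonoidHom.range_eq_top]
    exact h.onto b hb
  have h1 := (be b).ker.card_mul_index
  rw [AddSubgroup.index_ker, hr, Nat.card_congr AddSubgroup.topEquiv.toEquiv, h.cardD, h.cardB] at h1
  have h2 : Nat.card (be b).ker = Nat.card W := Nat.eq_of_mul_eq_mul_right hpos h1
  have h3 : SS sg b = (be b).ker := AddSubgroup.eq_of_le_of_card_ge hle (by rw [h2, h.card_SS hb])
  rw [h3]
  exact Iff.rfl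

theorem exists_b : ∃ b : B, b ≠ 0 := by
  have h1 : 1 < Nat.card B := by
    rw [h.cardB]
    exact Nat.one_lt_mul_iff.2 ⟨by have := h.nt; omega, by have := h.nt; omega, Or.inl h.nt⟩
  have := (Finite.one_lt_card_iff_nontrivial (α := B)).1 h1
  exact exists_ne 0

/-! ### nondegenerate form with values in `F₂` -/

omit [Finite W] in
theorem nondeg [Finite W] {ψ : D →+ ZMod 2} (hψ : ψ ≠ 0) {x : B} (hx : ∀ y, ψ (be x y) = 0) : x = 0 := by
  by_contra hne
  apply hψ
  ext d
  obtain ⟨y, hy⟩ := h.onto x hne d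
  rw [← hy, hx]; rfl

theorem rep {ψ : D →+ ZMod 2} (hψ : ψ ≠ 0) (F : B →+ B →+ ZMod 2) :
    ∃ g : AddMonoid.End B, ∀ b b', ψ (be (g b) b') = F b b' := by
  have hf := finite_hom (X := B) (Y := ZMod 2)
  let A : B →+ B →+ ZMod 2 :=
    { toFun := fun b => ψ.comp (be b)
      map_zero' := by ext; simp
      map_add' := fun b b' => by ext; simp }
  have hA : Function.Injective A := by
    rw [injective_iff_map_eq_zero]
    intro b hb
    exact h.nondeg hψ fun y => DFunLike.congr_fun hb y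
  have hA2 : Function.Bijective A := hA.bijective_of_nat_card_le (card_hom h.B2).le
  let e : B ≃+ (B →+ ZMod 2) := AddEquiv.ofBijective A hA2
  refine ⟨e.symm.toAddMonoidHom.comp F, fun b b' => ?_⟩
  have h1 : A (e.symm (F b)) = F b := e.apply_symm_apply (F b)
  exact DFunLike.congr_fun h1 b'

theorem ext_end {ψ : D →+ ZMod 2} (hψ : ψ ≠ 0) {x y : B} (hx : ∀ z, ψ (be x z) = ψ (be y z)) : x = y := by
  rw [← sub_eq_zero]
  refine h.nondeg hψ fun z => ?_
  rw [map_sub, AddMonoidHom.sub_apply, map_sub, hx, sub_self]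

theorem exists_psi : ∃ ψ : D →+ ZMod 2, ψ ≠ 0 := by
  have h1 : 1 < Nat.card D := by rw [h.cardD]; exact h.nt
  have := (Finite.one_lt_card_iff_nontrivial (α := D)).1 h1
  obtain ⟨d, hd⟩ := _root_.exists_ne (0 : D)
  obtain ⟨f, hf⟩ := exists_hom h.D2 hd
  exact ⟨f, fun h0 => hf (by rw [h0]; rfl)⟩

/-! ### the irreducible case -/

theorem not_irr (irr : ∀ U : AddSubgroup B, (∀ w, ∀ b ∈ U, sg w b ∈ U) → U = ⊥ ∨ U = ⊤) : False := by
  obtain ⟨ψ, hψ⟩ := h.exists_psi
  obtain ⟨b₀, hb₀⟩ := h.exists_b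
  have hfin : Finite (AddMonoid.End B) := finite_hom (X := B) (Y := B)
  have hfinD := finite_hom (X := D) (Y := ZMod 2)
  let C : Subring (AddMonoid.End B) := Subring.centralizer (Set.range sg)
  have hCmem : ∀ c : AddMonoid.End B, c ∈ C ↔ ∀ w b, sg w (c b) = c (sg w b) := by
    intro c
    rw [Subring.mem_centralizer_iff]
    constructor
    · intro h1 w b
      exact DFunLike.congr_fun (h1 (sg w) ⟨w, rfl⟩) b
    · rintro h1 _ ⟨w, rfl⟩
      ext b
      exact h1 w b
  have hfC : Finite C := Finite.of_injective (fun c : C => ((c : AddMonoid.End B) : B →+ B))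
    (fun _ _ hc => Subtype.ext hc)
  -- nonzero elements of `C` are injective
  have hinj : ∀ c ∈ C, c ≠ 0 → ∀ b, c b = 0 → b = 0 := by
    intro c hc hc0 b hb
    rcases irr c.ker (fun w x hx => by
      have hx' : c x = 0 := hx
      show c (sg w x) = 0
      rw [← (hCmem c).1 hc, hx', map_zero]) with h1 | h1
    · have h2 : b ∈ (c : B →+ B).ker := hb
      rw [h1] at h2
      exact h2
    · exfalso
      apply hc0
      ext x
      have h2 : x ∈ (c : B →+ B).ker := h1 ▸ AddSubgroup.mem_top x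
      exact h2
  have hdom : IsDomain C := by
    have : NoZeroDivisors C := ⟨by
      rintro ⟨c, hc⟩ ⟨d, hd⟩ hcd
      by_cases hc0 : c = 0
      · exact Or.inl (Subtype.ext hc0)
      · right
        apply Subtype.ext
        ext x
        have h1 : (c * d : AddMonoid.End B) = 0 := congrArg Subtype.val hcd
        exact hinj c hc hc0 _ (DFunLike.congr_fun h1 x)⟩
    have : Nontrivial C := ⟨⟨0, 1, fun h0 => hb₀ (by
      have h1 : (0 : AddMonoid.End B) = 1 := congrArg Subtype.val h0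
      exact (DFunLike.congr_fun h1 b₀).symm)⟩⟩
    exact NoZeroDivisors.to_isDomain C
  have hfield : IsField C := Finite.isDomain_to_isField C
  have hcomm : ∀ c ∈ C, ∀ d ∈ C, ∀ x, c (d x) = d (c x) := by
    intro c hc d hd x
    have h1 := hfield.mul_comm ⟨c, hc⟩ ⟨d, hd⟩
    exact DFunLike.congr_fun (congrArg Subtype.val h1) x
  -- the elements `δ`
  have hδ : ∀ ψ' : D →+ ZMod 2, ∃ g : AddMonoid.End B, ∀ b b', ψ (be (g b) b') = ψ' (be b b') := by
    intro ψ'
    let F : B →+ B →+ ZMod 2 :=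
      { toFun := fun b => ψ'.comp (be b)
        map_zero' := by ext; simp
        map_add' := fun b b' => by ext; simp }
    exact h.rep hψ F
  choose δ hδ using hδ
  have hδC : ∀ ψ', δ ψ' ∈ C := by
    intro ψ'
    rw [hCmem]
    intro w b
    refine h.ext_end hψ fun z => ?_
    rw [h.adj, hδ, hδ, h.adj]
  have hδinj : Function.Injective δ := by
    intro ψ₁ ψ₂ he
    ext d
    obtain ⟨y, hy⟩ := h.onto b₀ hb₀ d
    rw [← hy, ← hδ, he, hδ]
  -- `b ↦ c b` is injective on `C`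
  have hev : ∀ b, b ≠ 0 → ∀ c ∈ C, ∀ d ∈ C, c b = d b → c = d := by
    intro b hb c hc d hd he
    by_contra hne
    apply hb
    refine hinj (c - d) (C.sub_mem hc hd) (sub_ne_zero.2 hne) b ?_
    show c b - d b = 0
    rw [he, sub_self]
  have hcard1 : Nat.card W ≤ Nat.card C := by
    rw [← h.cardD, ← card_hom h.D2]
    exact Nat.card_le_card_of_injective (fun ψ' => (⟨δ ψ', hδC ψ'⟩ : C))
      (fun ψ₁ ψ₂ he => hδinj (congrArg Subtype.val he))
  -- the subgroups `C b`
  let CC : B → AddSubgroup B := fun b =>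
    { carrier := {x | ∃ c ∈ C, c b = x}
      zero_mem' := ⟨0, C.zero_mem, rfl⟩
      add_mem' := by
        rintro _ _ ⟨c, hc, rfl⟩ ⟨d, hd, rfl⟩
        exact ⟨c + d, C.add_mem hc hd, rfl⟩
      neg_mem' := by
        rintro _ ⟨c, hc, rfl⟩
        exact ⟨-c, C.neg_mem hc, rfl⟩ }
  have hCCmem : ∀ b x, x ∈ CC b ↔ ∃ c ∈ C, c b = x := fun b x => Iff.rfl
  have hCCself : ∀ b, b ∈ CC b := fun b => ⟨1, C.one_mem, rfl⟩
  have hCCcard : ∀ b, b ≠ 0 → Nat.card (CC b) = Nat.card C := by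
    intro b hb
    refine (Nat.card_congr (Equiv.ofBijective (fun c : C => (⟨(c : AddMonoid.End B) b, c, c.2, rfl⟩ : CC b))
      ⟨?_, ?_⟩)).symm
    · intro c d he
      exact Subtype.ext (hev b hb c c.2 d d.2 (congrArg Subtype.val he))
    · rintro ⟨_, c, hc, rfl⟩
      exact ⟨⟨c, hc⟩, rfl⟩
  by_cases htop : CC b₀ = ⊤
  · -- `C` is regular
    have hall : ∀ x : B, ∃ c ∈ C, c b₀ = x := fun x => by
      have h1 : x ∈ CC b₀ := htop ▸ AddSubgroup.mem_top x
      exact h1
    have hsgC : ∀ w, sg w ∈ C := by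
      intro w
      obtain ⟨c, hc, hcb⟩ := hall (sg w b₀)
      have h1 : sg w = c := by
        ext x
        obtain ⟨d, hd, rfl⟩ := hall x
        rw [(hCmem d).1 hd, ← hcb, hcomm d hd c hc]
      rw [h1]; exact hc
    -- self-adjoint elements
    let U : AddSubgroup B :=
      { carrier := {x | ∃ c ∈ C, (∀ y z, ψ (be (c y) z) = ψ (be y (c z))) ∧ c b₀ = x}
        zero_mem' := ⟨0, C.zero_mem, fun y z => by simp, rfl⟩
        add_mem' := by
          rintro _ _ ⟨c, hc, hc', rfl⟩ ⟨d, hd, hd', rfl⟩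
          refine ⟨c + d, C.add_mem hc hd, fun y z => ?_, rfl⟩
          have e1 : (c + d) y = c y + d y := rfl
          have e2 : (c + d) z = c z + d z := rfl
          rw [e1, e2, map_add, AddMonoidHom.add_apply, map_add, map_add, map_add, hc', hd']
        neg_mem' := by
          rintro _ ⟨c, hc, hc', rfl⟩
          refine ⟨-c, C.neg_mem hc, fun y z => ?_, rfl⟩
          have e1 : (-c) y = -(c y) := rfl
          have e2 : (-c) z = -(c z) := rfl
          rw [e1, e2, map_neg, AddMonoidHom.neg_apply, map_neg, map_neg, map_neg, hc'] }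
    have hUinv : ∀ w, ∀ b ∈ U, sg w b ∈ U := by
      rintro w _ ⟨c, hc, hc', rfl⟩
      refine ⟨sg w * c, C.mul_mem (hsgC w) hc, fun y z => ?_, rfl⟩
      show ψ (be (sg w (c y)) z) = ψ (be y (sg w (c z)))
      rw [h.adj, hc', (hCmem c).1 hc]
    have hb₀U : b₀ ∈ U := ⟨1, C.one_mem, fun _ _ => rfl, rfl⟩
    have hUtop : U = ⊤ := by
      rcases irr U hUinv with h1 | h1
      · rw [h1] at hb₀U
        exact absurd hb₀U hb₀
      · exact h1
    have hself : ∀ c ∈ C, ∀ y z, ψ (be (c y) z) = ψ (be y (c z)) := by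
      intro c hc
      have h1 : c b₀ ∈ U := hUtop ▸ AddSubgroup.mem_top _
      obtain ⟨d, hd, hd', he⟩ := h1
      rw [hev b₀ hb₀ c hc d hd he.symm]
      exact hd'
    -- squares
    have hsq : ∀ x : B, ∃ c ∈ C, c (c b₀) = x := by
      have h1 : Function.Injective (fun c : C => c * c) := by
        rintro ⟨c, hc⟩ ⟨d, hd⟩ he
        have he' : c * c = d * d := congrArg Subtype.val he
        have h2 : (c - d) * (c - d) = 0 := by
          ext x
          show c (c x - d x) - d (c x - d x) = 0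
          have h3 : c (c x) = d (d x) := DFunLike.congr_fun he' x
          rw [map_sub, map_sub, h3, hcomm c hc d hd x]
          have h4 : d (d x) - d (c x) - (d (c x) - d (d x)) = (d (d x) + d (d x)) - (d (c x) + d (c x)) := by abel
          rw [h4, h.B2, h.B2, sub_self]
        have h3 : (⟨c, hc⟩ - ⟨d, hd⟩ : C) * (⟨c, hc⟩ - ⟨d, hd⟩) = 0 := Subtype.ext h2
        have h4 := mul_self_eq_zero.1 h3
        exact sub_eq_zero.1 h4
      have h2 : Function.Surjective (fun c : C => c * c) := Finite.surjective_of_injective h1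
      intro x
      obtain ⟨c, hc, rfl⟩ := hall x
      obtain ⟨⟨e, he⟩, hee⟩ := h2 ⟨c, hc⟩
      refine ⟨e, he, ?_⟩
      have h3 : e * e = c := congrArg Subtype.val hee
      rw [← h3]; rfl
    apply hb₀
    refine h.nondeg hψ fun y => ?_
    obtain ⟨c, hc, rfl⟩ := hsq y
    rw [← hself c hc, h.self, map_zero]
  · -- `|C| = |W|`
    obtain ⟨x, hx⟩ : ∃ x, x ∉ CC b₀ := by
      by_contra hcon
      push Not at hcon
      exact htop (eq_top_iff.2 fun x _ => hcon x)
    have hcard2 : Nat.card C * Nat.card C ≤ Nat.card W * Nat.card W := by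
      rw [← h.cardB, ← Nat.card_prod]
      refine Nat.card_le_card_of_injective (fun p : C × C => (p.1 : AddMonoid.End B) b₀ + (p.2 : AddMonoid.End B) x) ?_
      rintro ⟨⟨c, hc⟩, ⟨c', hc'⟩⟩ ⟨⟨d, hd⟩, ⟨d', hd'⟩⟩ he
      have he' : c b₀ + c' x = d b₀ + d' x := he
      have h1 : (c - d) b₀ = (d' - c') x := by
        show c b₀ - d b₀ = d' x - c' x
        rw [sub_eq_sub_iff_add_eq_add, he', add_comm]
      by_cases h2 : d' - c' = 0
      · have h3 : d' = c' := sub_eq_zero.1 h2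
        have h4 : c = d := by
          refine hev b₀ hb₀ c hc d hd ?_
          rw [h3] at he'
          exact add_right_cancel he'
        subst h3; subst h4; rfl
      · exfalso
        obtain ⟨e, he⟩ := hfield.mul_inv_cancel (a := ⟨d' - c', C.sub_mem hd' hc'⟩)
          (fun h0 => h2 (congrArg Subtype.val h0))
        have h3 : (d' - c') * (e : AddMonoid.End B) = 1 := congrArg Subtype.val he
        apply hx
        refine ⟨(e : AddMonoid.End B) * (c - d), C.mul_mem e.2 (C.sub_mem hc hd), ?_⟩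
        show (e : AddMonoid.End B) ((c - d) b₀) = x
        rw [h1, ← hcomm _ (C.sub_mem hd' hc') _ e.2]
        exact DFunLike.congr_fun h3 x
    have hcard3 : Nat.card C = Nat.card W := by
      refine le_antisymm ?_ hcard1
      by_contra hcon
      push Not at hcon
      have := Nat.mul_lt_mul_of_lt_of_lt hcon hcon
      omega
    have hsurj : ∀ c ∈ C, ∃ ψ', δ ψ' = c := by
      have h1 : Function.Injective (fun ψ' => (⟨δ ψ', hδC ψ'⟩ : C)) :=
        fun ψ₁ ψ₂ he => hδinj (congrArg Subtype.val he)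
      have h2 : Function.Bijective (fun ψ' => (⟨δ ψ', hδC ψ'⟩ : C)) :=
        h1.bijective_of_nat_card_le (by rw [hcard3, card_hom h.D2, h.cardD])
      intro c hc
      obtain ⟨ψ', hψ'⟩ := h2.2 ⟨c, hc⟩
      exact ⟨ψ', congrArg Subtype.val hψ'⟩
    -- all elements of `C` are self-adjoint
    have hself : ∀ c ∈ C, ∀ y z, ψ (be (c y) z) = ψ (be y (c z)) := by
      intro c hc y z
      obtain ⟨ψ', rfl⟩ := hsurj c hc
      rw [hδ, h.symm y (δ ψ' z), hδ, h.symm]
    have halt : ∀ c ∈ C, ∀ y, ψ (be (c y) y) = 0 := by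
      intro c hc y
      obtain ⟨ψ', rfl⟩ := hsurj c hc
      rw [hδ, h.self, map_zero]
    have hle : ∀ b, b ≠ 0 → CC b ≤ SS sg b := by
      rintro b hb _ ⟨c, hc, rfl⟩
      rw [h.mem_iff hb]
      by_contra hne
      obtain ⟨f, hf⟩ := exists_hom h.D2 hne
      apply hf
      rw [← hδ, ← hself c hc]
      exact halt (c * δ f) (C.mul_mem hc (hδC f)) b
    have heq : ∀ b, b ≠ 0 → CC b = SS sg b := fun b hb =>
      AddSubgroup.eq_of_le_of_card_ge (hle b hb) (by rw [h.card_SS hb, hCCcard b hb, hcard3])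
    rcases irr (CC b₀) (fun w y hy => by
      obtain ⟨c, hc, rfl⟩ := hy
      by_cases h0 : c b₀ = 0
      · rw [h0, map_zero]; exact (CC b₀).zero_mem
      · have h1 : sg w (c b₀) ∈ CC (c b₀) := by
          rw [heq _ h0]
          exact ⟨w, rfl⟩
        obtain ⟨d, hd, he⟩ := h1
        exact ⟨d * c, C.mul_mem hd hc, he⟩) with h1 | h1
    · have h2 := hCCself b₀
      rw [h1] at h2
      exact hb₀ h2
    · exact htop h1

/-! ### the reducible case: the spread -/

theorem rep0 {ψ : D →+ ZMod 2} (hψ : ψ ≠ 0) (f : B →+ ZMod 2) : ∃ x, ∀ y, ψ (be x y) = f y := by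
  have hf := finite_hom (X := B) (Y := ZMod 2)
  let A : B →+ B →+ ZMod 2 :=
    { toFun := fun b => ψ.comp (be b)
      map_zero' := by ext; simp
      map_add' := fun b b' => by ext; simp }
  have hA : Function.Injective A := by
    rw [injective_iff_map_eq_zero]
    intro b hb
    exact h.nondeg hψ fun y => DFunLike.congr_fun hb y
  have hA2 : Function.Bijective A := hA.bijective_of_nat_card_le (card_hom h.B2).le
  obtain ⟨x, hx⟩ := hA2.2 f
  exact ⟨x, fun y => DFunLike.congr_fun hx y⟩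

theorem card_perp {ψ : D →+ ZMod 2} (hψ : ψ ≠ 0) (P Y : AddSubgroup B)
    (hP : ∀ x ∈ P, ∀ y ∈ Y, ψ (be x y) = 0) :
    Nat.card P * Nat.card Y ≤ Nat.card B := by
  have hq2 : ∀ q : B ⧸ P, q + q = 0 := by
    intro q
    obtain ⟨x, rfl⟩ := QuotientAddGroup.mk_surjective q
    rw [← QuotientAddGroup.mk_add, h.B2]; rfl
  have hfin := finite_hom (X := B ⧸ P) (Y := ZMod 2)
  let φ : Y → (B ⧸ P →+ ZMod 2) := fun y =>
    QuotientAddGroup.lift P
      ({ toFun := fun x => ψ (be x y)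
         map_zero' := by simp
         map_add' := fun x x' => by simp } : B →+ ZMod 2) (fun x hx => hP x hx y y.2)
  have hφ : Function.Injective φ := by
    intro y z hyz
    apply Subtype.ext
    refine h.ext_end hψ fun x => ?_
    have h1 : φ y (QuotientAddGroup.mk x) = φ z (QuotientAddGroup.mk x) := by rw [hyz]
    have h2 : ψ (be x y) = ψ (be x z) := h1
    rw [h.symm, h2, h.symm]
  have h1 : Nat.card Y ≤ P.index := by
    have h2 := Nat.card_le_card_of_injective φ hφ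
    rw [card_hom hq2] at h2
    exact h2
  rw [← P.card_mul_index]
  exact Nat.mul_le_mul_left _ h1

/-- there is a subgroup `U` of order `|W|` with `𝒮 u = U` for all `u ∈ U#` -/
theorem exists_U : ∃ U : AddSubgroup B, (∃ u ∈ U, u ≠ 0) ∧ (∀ u ∈ U, u ≠ 0 → SS sg u = U) := by
  obtain ⟨ψ, hψ⟩ := h.exists_psi
  obtain ⟨U, hU, hU1, hU2⟩ : ∃ U : AddSubgroup B, (∀ w, ∀ b ∈ U, sg w b ∈ U) ∧ U ≠ ⊥ ∧ U ≠ ⊤ := by
    by_contra hcon
    push Not at hcon
    refine h.not_irr fun U hU => ?_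
    by_cases h1 : U = ⊥
    · exact Or.inl h1
    · exact Or.inr (hcon U hU h1)
  have hU3 : ∃ u ∈ U, u ≠ 0 := by
    by_contra hcon
    push Not at hcon
    exact hU1 (eq_bot_iff.2 fun u hu => hcon u hu)
  refine ⟨U, hU3, ?_⟩
  -- a vector orthogonal to `U`
  obtain ⟨x₀, hx₀⟩ : ∃ x₀, x₀ ∉ U := by
    by_contra hcon
    push Not at hcon
    exact hU2 (eq_top_iff.2 fun x _ => hcon x)
  have hq2 : ∀ q : B ⧸ U, q + q = 0 := by
    intro q
    obtain ⟨x, rfl⟩ := QuotientAddGroup.mk_surjective q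
    rw [← QuotientAddGroup.mk_add, h.B2]; rfl
  have hne : (QuotientAddGroup.mk x₀ : B ⧸ U) ≠ 0 := fun h0 => hx₀ ((QuotientAddGroup.eq_zero_iff _).1 h0)
  obtain ⟨f, hf⟩ := exists_hom hq2 hne
  obtain ⟨y, hy⟩ := h.rep0 hψ (f.comp (QuotientAddGroup.mk' U))
  have hyU : ∀ u ∈ U, ψ (be y u) = 0 := by
    intro u hu
    rw [hy]
    show f (QuotientAddGroup.mk u) = 0
    rw [(QuotientAddGroup.eq_zero_iff _).2 hu, map_zero]
  have hy0 : y ≠ 0 := by
    rintro rfl
    apply hf
    have h1 := hy x₀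
    rw [map_zero, AddMonoidHom.zero_apply, map_zero] at h1
    exact h1.symm
  let P : AddSubgroup B :=
    { carrier := {x | ∀ z ∈ SS sg y, ψ (be x z) = 0}
      zero_mem' := fun z _ => by simp
      add_mem' := fun {x x'} hx hx' z hz => by
        rw [map_add be, AddMonoidHom.add_apply, map_add, hx z hz, hx' z hz, add_zero]
      neg_mem' := fun {x} hx z hz => by
        rw [map_neg be, AddMonoidHom.neg_apply, map_neg, hx z hz, neg_zero] }
  have hUP : U ≤ P := by
    rintro u hu _ ⟨w, rfl⟩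
    show ψ (be u (sg w y)) = 0
    rw [← h.adj, h.symm]
    exact hyU _ (hU w u hu)
  have h1 := h.card_perp hψ P (SS sg y) (fun x hx => hx)
  rw [h.card_SS hy0, h.cardB] at h1
  have h2 : Nat.card P ≤ Nat.card W := Nat.le_of_mul_le_mul_right h1 Nat.card_pos
  have h3 : Nat.card U ≤ Nat.card W := (AddSubgroup.card_le_of_le hUP).trans h2
  intro u hu hu0
  refine AddSubgroup.eq_of_le_of_card_ge ?_ (by rw [h.card_SS hu0]; exact h3)
  rintro _ ⟨w, rfl⟩
  exact hU w u hu

/-- the spread -/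
theorem spread {b b' : B} (hb : b ≠ 0) (hb' : b' ≠ 0) (hm : b' ∈ SS sg b) : SS sg b' = SS sg b := by
  obtain ⟨U, ⟨u, hu, hu0⟩, hU⟩ := h.exists_U
  obtain ⟨w₀, hw₀⟩ := h.one
  obtain ⟨gB, gT, gW, hg, hT⟩ := h.trans u b hu0 hb
  -- `gT (𝒮 v) = 𝒮 (gB v)`
  have hS : ∀ v x, x ∈ SS sg v ↔ gT x ∈ SS sg (gB v) := by
    intro v x
    constructor
    · rintro ⟨w, rfl⟩
      exact ⟨gW w, (hT v w).symm⟩
    · rintro ⟨w, hw⟩
      refine ⟨gW.symm w, ?_⟩
      apply gT.injective
      have h1 := hT v (gW.symm w)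
      rw [gW.apply_symm_apply] at h1
      exact h1.trans hw
  obtain ⟨u', rfl⟩ : ∃ u', gB u' = b' := ⟨gB.symm b', gB.apply_symm_apply b'⟩
  have hu'0 : u' ≠ 0 := fun h0 => hb' (by rw [h0, map_zero])
  have h1 : gT (sg (gW.symm w₀) u') = gB u' := by
    rw [hT, gW.apply_symm_apply, hw₀]; rfl
  have hw1 : gW.symm w₀ ≠ 0 := by
    intro h0
    have h2 : w₀ = 0 := by
      have := congrArg gW h0
      rwa [gW.apply_symm_apply, map_zero] at this
    rw [h2, map_zero] at hw₀
    apply hb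
    exact (DFunLike.congr_fun hw₀ b).symm
  rw [← hg, ← h1, ← hS, hU u hu hu0] at hm
  -- `sg w₁` maps `U` onto `U`
  have hinv : ∀ w, ∀ v ∈ U, sg w v ∈ U := by
    intro w v hv
    by_cases hv0 : v = 0
    · rw [hv0, map_zero]; exact U.zero_mem
    · rw [← hU v hv hv0]
      exact ⟨w, rfl⟩
  let f : U → U := fun v => ⟨sg (gW.symm w₀) v, hinv _ v v.2⟩
  have hf : Function.Injective f := by
    intro v v' he
    apply Subtype.ext
    rw [← sub_eq_zero]
    have h2 : sg (gW.symm w₀) (v - v' : B) = 0 := by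
      rw [map_sub, sub_eq_zero]
      exact congrArg Subtype.val he
    exact (h.inj _ _ h2).resolve_left hw1
  obtain ⟨v, hv⟩ := Finite.surjective_of_injective hf ⟨_, hm⟩
  have hv' : sg (gW.symm w₀) (v : B) = sg (gW.symm w₀) u' := congrArg Subtype.val hv
  have hvu : (v : B) = u' := by
    rw [← sub_eq_zero]
    have h2 : sg (gW.symm w₀) (v - u' : B) = 0 := by
      rw [map_sub, sub_eq_zero]
      exact hv'
    exact (h.inj _ _ h2).resolve_left hw1
  have hu'U : u' ∈ U := hvu ▸ v.2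
  have h3 : SS sg u' = SS sg u := by rw [hU u' hu'U hu'0, hU u hu hu0]
  rw [← hg]
  ext x
  obtain ⟨t, rfl⟩ := gT.surjective x
  rw [← hS, ← hS, h3]

/-- the kernel of the spread -/
def kk : Subring (AddMonoid.End B) where
  carrier := {f | ∀ b, f b ∈ SS sg b}
  zero_mem' := fun b => (SS sg b).zero_mem
  one_mem' := fun b => h.mem_self b
  add_mem' := fun {f g} hf hg b => (SS sg b).add_mem (hf b) (hg b)
  neg_mem' := fun {f} hf b => (SS sg b).neg_mem (hf b)
  mul_mem' := fun {f g} hf hg b => by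
    show f (g b) ∈ SS sg b
    by_cases h0 : g b = 0
    · rw [h0, map_zero]; exact (SS sg b).zero_mem
    · have hb : b ≠ 0 := fun hb => h0 (by rw [hb, map_zero])
      rw [← h.spread hb h0 (hg b)]
      exact hf _

theorem sg_mem_kk (w : W) : sg w ∈ h.kk := fun _ => ⟨w, rfl⟩

theorem exists_not_mem (b : B) : ∃ c, c ∉ SS sg b := by
  by_contra hcon
  push Not at hcon
  have h1 : SS sg b = ⊤ := eq_top_iff.2 fun x _ => hcon x
  by_cases hb : b = 0
  · obtain ⟨x, hx⟩ := h.exists_b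
    obtain ⟨w, hw⟩ := hcon x
    apply hx
    rw [← hw]
    show sg w b = 0
    rw [hb, map_zero]
  · have h2 := h.card_SS hb
    rw [h1, Nat.card_congr AddSubgroup.topEquiv.toEquiv, h.cardB] at h2
    have := h.nt
    nlinarith

/-- nonzero elements of `kk` are injective -/
theorem kk_inj {f : AddMonoid.End B} (hf : f ∈ h.kk) {b : B} (hb : b ≠ 0) (hfb : f b = 0) : f = 0 := by
  have h1 : ∀ b', b' ∉ SS sg b → f b' = 0 := by
    intro b' hb'
    by_contra hne
    have hb'0 : b' ≠ 0 := fun h0 => hb' (h0 ▸ (SS sg b).zero_mem)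
    have e1 : f (b + b') = f b' := by rw [map_add, hfb, zero_add]
    have hbb : b + b' ≠ 0 := fun h0 => hne (by rw [← e1, h0, map_zero])
    have h2 : SS sg (f b') = SS sg b' := h.spread hb'0 hne (hf b')
    have h3 : SS sg (f b') = SS sg (b + b') := h.spread hbb hne (by rw [← e1]; exact hf _)
    have h4 : b + b' ∈ SS sg b' := by
      rw [← h2, h3]; exact h.mem_self _
    have h5 : b ∈ SS sg b' := by
      have := (SS sg b').sub_mem h4 (h.mem_self b')
      rwa [add_sub_cancel_right] at this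
    apply hb'
    rw [h.spread hb'0 hb h5]
    exact h.mem_self b'
  ext b'
  by_cases h2 : b' ∈ SS sg b
  · obtain ⟨c, hc⟩ := h.exists_not_mem b
    have h3 : b' + c ∉ SS sg b := fun h4 => hc (by
      have := (SS sg b).sub_mem h4 h2
      rwa [add_sub_cancel_left] at this)
    have h4 := h1 _ h3
    rw [map_add, h1 c hc, add_zero] at h4
    exact h4
  · exact h1 b' h2

theorem finite_kk : Finite h.kk := by
  have hfin : Finite (AddMonoid.End B) := finite_hom (X := B) (Y := B)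
  infer_instance

theorem isField_kk : IsField h.kk := by
  have := h.finite_kk
  obtain ⟨b₀, hb₀⟩ := h.exists_b
  have : NoZeroDivisors h.kk := ⟨by
    rintro ⟨c, hc⟩ ⟨d, hd⟩ hcd
    have h1 : (c * d : AddMonoid.End B) = 0 := congrArg Subtype.val hcd
    by_cases hd0 : d b₀ = 0
    · exact Or.inr (Subtype.ext (h.kk_inj hd hb₀ hd0))
    · exact Or.inl (Subtype.ext (h.kk_inj hc hd0 (DFunLike.congr_fun h1 b₀)))⟩
  have : Nontrivial h.kk := ⟨⟨0, 1, fun h0 => hb₀ (by
    have h1 : (0 : AddMonoid.End B) = 1 := congrArg Subtype.val h0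
    exact (DFunLike.congr_fun h1 b₀).symm)⟩⟩
  have : IsDomain h.kk := NoZeroDivisors.to_isDomain _
  exact Finite.isDomain_to_isField _

/-- `𝒮 = kk` -/
theorem exists_of_mem {f : AddMonoid.End B} (hf : f ∈ h.kk) : ∃ w, sg w = f := by
  obtain ⟨b₀, hb₀⟩ := h.exists_b
  obtain ⟨w, hw⟩ := hf b₀
  refine ⟨w, ?_⟩
  have h1 : sg w - f = 0 := h.kk_inj (h.kk.sub_mem (h.sg_mem_kk w) hf) hb₀ (by
    show sg w b₀ - f b₀ = 0
    rw [← hw]
    exact sub_self _)
  exact sub_eq_zero.1 h1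

theorem sg_inj : Function.Injective sg := by
  obtain ⟨b₀, hb₀⟩ := h.exists_b
  intro w w' he
  exact h.so_inj hb₀ (DFunLike.congr_fun he b₀)

/-! ### coordinates -/

/-- `𝒮` is commutative -/
theorem comm {f g : AddMonoid.End B} (hf : f ∈ h.kk) (hg : g ∈ h.kk) (x : B) : f (g x) = g (f x) := by
  have h1 := h.isField_kk.mul_comm ⟨f, hf⟩ ⟨g, hg⟩
  exact DFunLike.congr_fun (congrArg Subtype.val h1) x

theorem kk_adj {f : AddMonoid.End B} (hf : f ∈ h.kk) (b b' : B) : be (f b) b' = be b (f b') := by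
  obtain ⟨w, rfl⟩ := h.exists_of_mem hf
  exact h.adj w b b'

theorem kk_alt {f : AddMonoid.End B} (hf : f ∈ h.kk) (b : B) : be (f b) b = 0 := by
  obtain ⟨w, rfl⟩ := h.exists_of_mem hf
  exact h.alt w b

theorem card_kk : Nat.card h.kk = Nat.card W := by
  refine (Nat.card_congr (Equiv.ofBijective (fun w : W => (⟨sg w, h.sg_mem_kk w⟩ : h.kk)) ⟨?_, ?_⟩)).symm
  · intro w w' he
    exact h.sg_inj (congrArg Subtype.val he)
  · rintro ⟨f, hf⟩
    obtain ⟨w, hw⟩ := h.exists_of_mem hf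
    exact ⟨w, Subtype.ext hw⟩

theorem exists_coord {b₁ b₂ : B} (h₁ : b₁ ≠ 0) (h₂ : b₂ ∉ SS sg b₁) (b : B) :
    ∃ x ∈ h.kk, ∃ y ∈ h.kk, x b₁ + y b₂ = b := by
  have hfin := h.finite_kk
  have h₂0 : b₂ ≠ 0 := fun h0 => h₂ (h0 ▸ (SS sg b₁).zero_mem)
  let f : h.kk × h.kk → B := fun p => (p.1 : AddMonoid.End B) b₁ + (p.2 : AddMonoid.End B) b₂
  have hf : Function.Injective f := by
    rintro ⟨⟨x, hx⟩, ⟨y, hy⟩⟩ ⟨⟨x', hx'⟩, ⟨y', hy'⟩⟩ he
    have he' : x b₁ + y b₂ = x' b₁ + y' b₂ := he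
    have h3 : (x - x') b₁ = (y' - y) b₂ := by
      show x b₁ - x' b₁ = y' b₂ - y b₂
      rw [sub_eq_sub_iff_add_eq_add, he', add_comm]
    have h4 : y' - y = 0 := by
      by_contra h5
      have h6 : (y' - y) b₂ ≠ 0 := fun h0 => h5 (h.kk_inj (h.kk.sub_mem hy' hy) h₂0 h0)
      apply h₂
      rw [← h.spread h₁ h6 (by rw [← h3]; exact h.kk.sub_mem hx hx' b₁),
        h.spread h₂0 h6 (h.kk.sub_mem hy' hy b₂)]
      exact h.mem_self _
    have h5 : x - x' = 0 := by
      refine h.kk_inj (h.kk.sub_mem hx hx') h₁ ?_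
      rw [h3, h4]; rfl
    have h6 : x = x' := sub_eq_zero.1 h5
    have h7 : y' = y := sub_eq_zero.1 h4
    subst h6; subst h7; rfl
  have hf2 : Function.Bijective f := hf.bijective_of_nat_card_le (by
    rw [Nat.card_prod, h.card_kk, h.cardB])
  obtain ⟨⟨⟨x, hx⟩, ⟨y, hy⟩⟩, he⟩ := hf2.2 b
  exact ⟨x, hx, y, hy, he⟩

/-- the form in coordinates -/
theorem be_coord (b₁ b₂ : B) {x y x' y' : AddMonoid.End B} (hx : x ∈ h.kk) (hy : y ∈ h.kk)
    (hx' : x' ∈ h.kk) (hy' : y' ∈ h.kk) :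
    be (x b₁ + y b₂) (x' b₁ + y' b₂) = be ((x * y' + y * x') b₁) b₂ := by
  have e1 : be (x b₁) (x' b₁) = 0 := by
    rw [← h.kk_adj hx']
    exact h.kk_alt (h.kk.mul_mem hx' hx) b₁
  have e2 : be (x b₁) (y' b₂) = be ((x * y') b₁) b₂ := by
    rw [← h.kk_adj hy']
    show be (y' (x b₁)) b₂ = be (x (y' b₁)) b₂
    rw [h.comm hy' hx]
  have e3 : be (y b₂) (x' b₁) = be ((y * x') b₁) b₂ := by
    rw [h.kk_adj hy, h.symm]; rfl
  have e4 : be (y b₂) (y' b₂) = 0 := by
    rw [← h.kk_adj hy']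
    exact h.kk_alt (h.kk.mul_mem hy' hy) b₂
  rw [map_add be, AddMonoidHom.add_apply, map_add, map_add, e1, e2, e3, e4, zero_add, add_zero,
    add_ap, map_add be, AddMonoidHom.add_apply]

/-- a basis of `B` defines the coordinate of `D` -/
theorem exists_eD {b₁ b₂ : B} (h₁ : b₁ ≠ 0) (h₂ : b₂ ∉ SS sg b₁) :
    ∃ e : h.kk ≃+ D, ∀ x : h.kk, e x = be ((x : AddMonoid.End B) b₁) b₂ := by
  have hfin := h.finite_kk
  let f : h.kk →+ D :=
    { toFun := fun x => be ((x : AddMonoid.End B) b₁) b₂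
      map_zero' := by
        show be ((0 : AddMonoid.End B) b₁) b₂ = 0
        rw [zero_ap, map_zero, AddMonoidHom.zero_apply]
      map_add' := fun x y => by
        show be (((x : AddMonoid.End B) + (y : AddMonoid.End B)) b₁) b₂ = _
        rw [add_ap, map_add be, AddMonoidHom.add_apply] }
  have hf : Function.Surjective f := by
    intro d
    obtain ⟨b', hb'⟩ := h.onto b₁ h₁ d
    obtain ⟨x, hx, y, hy, rfl⟩ := h.exists_coord h₁ h₂ b'
    refine ⟨⟨y, hy⟩, ?_⟩
    have h3 := h.be_coord b₁ b₂ h.kk.one_mem h.kk.zero_mem hx hy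
    rw [one_mul, zero_mul, add_zero] at h3
    have e1 : (1 : AddMonoid.End B) b₁ + (0 : AddMonoid.End B) b₂ = b₁ := by
      show b₁ + 0 = b₁
      rw [add_zero]
    rw [e1, hb'] at h3
    exact h3.symm
  have hf2 : Function.Bijective f := hf.bijective_of_nat_card_le (by rw [h.card_kk, h.cardD])
  exact ⟨AddEquiv.ofBijective f hf2, fun x => rfl⟩

end Sg

end sg

/-! ### from `Sys` to `Fld` -/

universe u

variable {B X M D : Type u} [AddCommGroup B] [AddCommGroup X] [AddCommGroup M] [AddCommGroup D] [Finite B]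

theorem exists_theta (S : Sys B X M D) {x₀ : X} (hx : x₀ ≠ 0) : ∃ θ : B ≃+ M, ∀ b, θ b = S.τ b x₀ := by
  have h1 : Function.Bijective (S.τ.flip x₀) := by
    constructor
    · rw [injective_iff_map_eq_zero]
      intro b hb
      by_contra hne
      exact S.τ_ne b x₀ hne hx hb
    · exact fun m => S.τ_surj x₀ hx m
  exact ⟨AddEquiv.ofBijective _ h1, fun b => rfl⟩

theorem exists_sg (S : Sys B X M D) {x₀ : X} (hx : x₀ ≠ 0) (θ : B ≃+ M) (hθ : ∀ b, θ b = S.τ b x₀) :
    Finite X ∧ Finite M ∧ Finite D ∧ ∃ (sg : X →+ AddMonoid.End B) (be : B →+ B →+ D),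
      (∀ x b, θ (sg x b) = S.τ b x) ∧ (∀ b b', be b b' = S.l b' (θ b)) ∧ Sg sg be := by
  obtain ⟨b₀, hb₀⟩ := S.ntB
  have hM : Finite M := Finite.of_equiv B θ.toEquiv
  have hτ : Function.Injective (S.τ b₀) := by
    rw [injective_iff_map_eq_zero]
    intro x hx
    by_contra hne
    exact S.τ_ne b₀ x hb₀ hne hx
  have hX : Finite X := Finite.of_injective _ hτ
  have hD : Finite D := Finite.of_surjective (S.l b₀) (fun d => S.l_surj b₀ hb₀ d)
  have hXD : Nat.card X = Nat.card D :=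
    Nat.card_congr (Equiv.ofBijective (S.φ b₀) ⟨S.φ_inj b₀ hb₀, S.φ_surj b₀ hb₀⟩)
  have hcard : Nat.card B = Nat.card X * Nat.card X := by
    rw [Nat.card_congr θ.toEquiv]
    have h1 := (S.l b₀).ker.card_mul_index
    have h2 : (S.l b₀).range = ⊤ := AddMonoidHom.range_eq_top.2 (fun d => S.l_surj b₀ hb₀ d)
    have h3 : (S.l b₀).ker = (S.τ b₀).range := by
      apply le_antisymm
      · intro m hm
        obtain ⟨x, rfl⟩ := S.l_ker b₀ m hb₀ hm
        exact ⟨x, rfl⟩
      · rintro _ ⟨x, rfl⟩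
        exact S.lτ b₀ x
    rw [AddSubgroup.index_ker, h2, Nat.card_congr AddSubgroup.topEquiv.toEquiv, h3,
      ← Nat.card_congr (AddMonoidHom.ofInjective hτ).toEquiv, ← hXD] at h1
    exact h1.symm
  refine ⟨hX, hM, hD, ?_⟩
  let sg : X →+ AddMonoid.End B :=
    { toFun := fun x => θ.symm.toAddMonoidHom.comp (S.τ.flip x)
      map_zero' := by
        ext b
        show θ.symm (S.τ b 0) = 0
        rw [map_zero, map_zero]
      map_add' := fun x y => by
        ext b
        show θ.symm (S.τ b (x + y)) = θ.symm (S.τ b x) + θ.symm (S.τ b y)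
        rw [map_add, map_add] }
  have hsg : ∀ x b, sg x b = θ.symm (S.τ b x) := fun x b => rfl
  have hsg' : ∀ x b, θ (sg x b) = S.τ b x := fun x b => by rw [hsg, θ.apply_symm_apply]
  let be : B →+ B →+ D := S.l.flip.comp θ.toAddMonoidHom
  have hbe : ∀ b b', be b b' = S.l b' (θ b) := fun b b' => rfl
  refine ⟨sg, be, hsg', hbe, ?_⟩
  exact
  { B2 := S.twoB
    D2 := S.twoD
    one := ⟨x₀, by
      ext b
      rw [hsg, ← hθ, θ.symm_apply_apply]; rfl⟩
    inj := fun x b hxb => by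
      by_contra hcon
      push Not at hcon
      refine S.τ_ne b x hcon.2 hcon.1 ?_
      rw [← hsg', hxb, map_zero]
    alt := fun x b => by rw [hbe, hsg', S.lτ]
    onto := fun b hb d => by
      obtain ⟨b', hb'⟩ := S.l_surj' (θ b) (fun h0 => hb (θ.map_eq_zero_iff.1 h0)) d
      exact ⟨b', hb'⟩
    cardB := hcard
    cardD := hXD.symm
    nt := by
      have : Nontrivial X := ⟨⟨x₀, 0, hx⟩⟩
      exact Finite.one_lt_card
    trans := fun b b' hb hb' => by
      obtain ⟨hB, hX, hM, -, h1, -, h3⟩ := S.trans b b' hb hb'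
      refine ⟨hB, (θ.trans hM).trans θ.symm, hX, h3, fun y x => ?_⟩
      show θ.symm (hM (θ (sg x y))) = sg (hX x) (hB y)
      rw [hsg', h1, hsg] }

/-- **(10)** -/
theorem commStmt : CommStmt.{u} := by
  intro B X M D _ _ _ _ _ S
  obtain ⟨x₀, hx₀⟩ := S.ntX
  obtain ⟨θ, hθ⟩ := exists_theta S hx₀
  obtain ⟨hX, hM, hD, sg, be, hsg, hbe, h⟩ := exists_sg S hx₀ θ hθ
  obtain ⟨b₁, hb₁⟩ := h.exists_b
  obtain ⟨b₂, hb₂⟩ := h.exists_not_mem b₁
  obtain ⟨eD, heD⟩ := h.exists_eD hb₁ hb₂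
  let F : Field h.kk := h.isField_kk.toField
  let md : Module h.kk B :=
    { smul := fun r b => (r : AddMonoid.End B) b
      one_smul := fun b => rfl
      mul_smul := fun r r' b => rfl
      smul_zero := fun r => map_zero (r : AddMonoid.End B)
      smul_add := fun r b b' => map_add (r : AddMonoid.End B) b b'
      add_smul := fun r r' b => rfl
      zero_smul := fun b => rfl }
  refine ⟨h.kk, F, h.finite_kk, md, ⟨?_⟩⟩
  have hsmul : ∀ (r : h.kk) (b : B), r • b = (r : AddMonoid.End B) b := fun r b => rfl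
  let eX : X →+ h.kk :=
    { toFun := fun x => ⟨sg x, h.sg_mem_kk x⟩
      map_zero' := Subtype.ext (map_zero sg)
      map_add' := fun x y => Subtype.ext (map_add sg x y) }
  have heX : Function.Bijective eX := by
    constructor
    · intro x y he
      exact h.sg_inj (congrArg Subtype.val he)
    · rintro ⟨f, hf⟩
      obtain ⟨w, hw⟩ := h.exists_of_mem hf
      exact ⟨w, Subtype.ext hw⟩
  let eX' : X ≃+ h.kk := AddEquiv.ofBijective eX heX
  let eD' : D ≃+ h.kk := eD.symm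
  have hlb : ∀ b m, S.l b m = be (θ.symm m) b := fun b m => by rw [hbe, θ.apply_symm_apply]
  exact
  { eX := eX'
    eM := θ.symm
    eD := eD'
    f := fun b c => eD' (be c b)
    hτ := fun b x => by
      show θ.symm (S.τ b x) = sg x b
      rw [← hsg, θ.symm_apply_apply]
    hl := fun b m => by
      show eD' (S.l b m) = eD' (be (θ.symm m) b)
      rw [hlb]
    f_add := fun a b c => by
      show eD' (be c (a + b)) = eD' (be c a) + eD' (be c b)
      rw [map_add, map_add]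
    f_smul := fun r b c => by
      obtain ⟨x, hx, y, hy, rfl⟩ := h.exists_coord hb₁ hb₂ b
      obtain ⟨x', hx', y', hy', rfl⟩ := h.exists_coord hb₁ hb₂ c
      obtain ⟨r, hr⟩ := r
      show eD' (be (x' b₁ + y' b₂) (r (x b₁ + y b₂))) = ⟨r, hr⟩ * eD' (be (x' b₁ + y' b₂) (x b₁ + y b₂))
      have e0 : r (x b₁ + y b₂) = (r * x) b₁ + (r * y) b₂ := map_add r (x b₁) (y b₂)
      rw [e0, h.be_coord b₁ b₂ hx' hy' (h.kk.mul_mem hr hx) (h.kk.mul_mem hr hy),
        h.be_coord b₁ b₂ hx' hy' hx hy]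
      have e1 : be ((x' * (r * y) + y' * (r * x)) b₁) b₂ =
          eD ⟨x' * (r * y) + y' * (r * x),
            h.kk.add_mem (h.kk.mul_mem hx' (h.kk.mul_mem hr hy)) (h.kk.mul_mem hy' (h.kk.mul_mem hr hx))⟩ := by
        rw [heD]
      have e2 : be ((x' * y + y' * x) b₁) b₂ =
          eD ⟨x' * y + y' * x, h.kk.add_mem (h.kk.mul_mem hx' hy) (h.kk.mul_mem hy' hx)⟩ := by
        rw [heD]
      rw [e1, e2]
      show eD.symm (eD _) = ⟨r, hr⟩ * eD.symm (eD _)
      rw [eD.symm_apply_apply, eD.symm_apply_apply]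
      apply Subtype.ext
      show x' * (r * y) + y' * (r * x) = r * (x' * y + y' * x)
      have c1 : x' * (r * y) = r * (x' * y) := by
        ext z
        exact h.comm hx' hr (y z)
      have c2 : y' * (r * x) = r * (y' * x) := by
        ext z
        exact h.comm hy' hr (x z)
      rw [c1, c2, mul_add]
    f_self := fun b => by
      show eD' (be b b) = 0
      rw [h.self, map_zero]
    f_symm := fun b c => by
      show eD' (be c b) = eD' (be b c)
      rw [h.symm]
    f_ker := fun b c hb hc => by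
      have h1 : be b c = 0 := by
        rw [h.symm]
        exact eD'.map_eq_zero_iff.1 hc
      obtain ⟨w, hw⟩ := (h.mem_iff hb).2 h1
      exact ⟨⟨sg w, h.sg_mem_kk w⟩, hw.symm⟩ }

end Cfsg.Agent.Omega.NO1.HE.Comm

end
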