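import Cfsg.Agent.Mrg.Omega.NO1.HE.End
import Cfsg.Agent.Mrg.Omega.NO1.JOff


/-!
# THE END of (BT), `|V / E| = 2`: (+) for one frame ⟹ `Minus2` (N1, text #17521, helper207)

* `alt_of` : a regular four-group on the last four of five vectors gives `A₅`;
* `Geo.five` : `Geo 2` gives five vectors with sum 0;
* **`minus2`** : (+) for one frame implies type `Minus2` if `|V / E| = 2`.
-/

set_option autoImplicit false
set_option linter.unusedSectionVars false

namespace Cfsg.Agent.Omega.NO1.HE

open Subgroup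
open Cfsg Cfsg.Agent.ZN Cfsg.Agent.Omega.MinPar Cfsg.Agent.Omega.Frame
open scoped Pointwise

universe u

section alt

open Cfsg.Agent.Omega.NearFF.Plus

variable {Y V : Type u} [Group Y] [Finite Y] [AddCommGroup V] [DistribMulAction Y V]

/-- A regular four-group on the last four vectors gives `A₅`. -/
theorem alt_of {w : Fin 5 → V} (hinj : Function.Injective w) {B : Subgroup Y} (h4 : Nat.card B = 4)
    (h2 : ∀ b ∈ B, b * b = 1) (hfix : ∀ b ∈ B, b • w 0 = w 0)
    (hfree : ∀ b ∈ B, ∀ i, b • w i = w i → b = 1 ∨ i = 0)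
    (hr : Set.range w = MulAction.orbit Y (w 0)) :
    (∀ g : Y, ∃ σ : Equiv.Perm (Fin 5), ∀ i, g • w i = w (σ i)) ∧
    ∀ σ ∈ alternatingGroup (Fin 5), ∃ g : Y, ∀ i, g • w i = w (σ i) := by
  classical
  have hperm : ∀ g : Y, ∃ σ : Equiv.Perm (Fin 5), ∀ i, g • w i = w (σ i) := by
    intro g
    have h1 : ∀ i, ∃ j, g • w i = w j := by
      intro i
      have h0 : w i ∈ MulAction.orbit Y (w 0) := hr ▸ ⟨i, rfl⟩
      have h3 : g • w i ∈ Set.range w := by
        rw [hr]
        exact MulAction.mem_orbit_of_mem_orbit g h0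
      obtain ⟨j, hj⟩ := h3
      exact ⟨j, hj.symm⟩
    choose f hf using h1
    have hfi : Function.Injective f := by
      intro i j hij
      apply hinj
      apply MulAction.injective g
      change g • w i = g • w j
      rw [hf, hf, hij]
    exact ⟨Equiv.ofBijective f (Finite.injective_iff_bijective.1 hfi), hf⟩
  refine ⟨hperm, ?_⟩
  choose p hp using hperm
  have hpm : ∀ g g' : Y, p (g * g') = p g * p g' := by
    intro g g'
    ext i
    congr 1
    apply hinj
    rw [← hp, mul_smul, hp g', hp g, Equiv.Perm.mul_apply]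
  let ψ : Y →* Equiv.Perm (Fin 5) := MonoidHom.mk' p hpm
  have hle : alternatingGroup (Fin 5) ≤ ψ.range := by
    refine alt_le ?_ ?_
    · intro i
      have h1 : w i ∈ MulAction.orbit Y (w 0) := hr ▸ ⟨i, rfl⟩
      obtain ⟨g, hg⟩ := h1
      refine ⟨ψ g, ⟨g, rfl⟩, hinj ?_⟩
      change w (p g 0) = w i
      rw [← hp]
      exact hg
    · have hB : ∀ b ∈ B, b ≠ 1 → Good (p b) := by
        intro b hb hb1
        refine ⟨?_, ?_, fun i hi h3 => ?_⟩
        · rw [← hpm, h2 b hb]
          ext i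
          congr 1
          apply hinj
          rw [← hp, one_smul, Equiv.Perm.one_apply]
        · apply hinj
          rw [← hp, hfix b hb]
        · rcases hfree b hb i (by rw [hp, h3]) with h4 | h4
          · exact hb1 h4
          · exact hi h4
      haveI := Fintype.ofFinite B
      have hcB : Fintype.card B = 4 := by rw [← Nat.card_eq_fintype_card]; exact h4
      let S : Finset (Equiv.Perm (Fin 5)) := (Finset.univ.erase (1 : B)).image fun b : B => p (b : Y)
      have hS : S.card = 3 := by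
        rw [Finset.card_image_of_injOn, Finset.card_erase_of_mem (Finset.mem_univ _), Finset.card_univ, hcB]
        intro b _ b' _ hbb
        have hbb' : p (b : Y) = p (b' : Y) := hbb
        have h3 : (b'⁻¹ * b : B) = 1 := by
          have h4 : ((b' : Y)⁻¹ * (b : Y)) • w 1 = w 1 := by
            rw [mul_smul, hp (b : Y), hbb', ← hp (b' : Y), inv_smul_smul]
          rcases hfree _ (mul_mem (inv_mem b'.2) b.2) 1 h4 with h5 | h5
          · exact Subtype.ext h5
          · exact absurd h5 (by decide)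
        exact (inv_mul_eq_one.1 h3).symm
      have hSG : S ⊆ Finset.univ.filter Good := by
        intro τ hτ
        obtain ⟨b, hb, rfl⟩ := Finset.mem_image.1 hτ
        rw [Finset.mem_filter]
        refine ⟨Finset.mem_univ _, hB b b.2 fun h3 => ?_⟩
        exact (Finset.mem_erase.1 hb).1 (Subtype.ext h3)
      have hSeq : S = Finset.univ.filter Good := Finset.eq_of_subset_of_card_le hSG (by rw [card_good, hS])
      intro τ hτ
      have h3 : τ ∈ S := by rw [hSeq, Finset.mem_filter]; exact ⟨Finset.mem_univ _, hτ⟩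
      obtain ⟨b, -, rfl⟩ := Finset.mem_image.1 h3
      exact ⟨b, rfl⟩
  intro σ hσ
  obtain ⟨g, hg⟩ := hle hσ
  refine ⟨g, fun i => ?_⟩
  rw [hp, ← hg]
  rfl

end alt

namespace Geo

variable {Y : Type u} [Group Y] [Finite Y] {V : Type u} [AddCommGroup V] [Finite V] [DistribMulAction Y V]
  {Ω : Type u} [MulAction Y Ω] (G : Geo 2 Y V Ω)

/-- `F_p = {0, w_p}` -/
theorem exists_w (p : Ω) : ∃ w ∈ G.F p, w ≠ 0 ∧ ∀ x ∈ G.F p, x = 0 ∨ x = w := by
  have h1 : Nat.card (G.F p) = 2 := G.card_F
  obtain ⟨a, ha, h2⟩ := (Nat.card_eq_two_iff' (0 : G.F p)).1 h1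
  refine ⟨a, a.2, fun h => ha (Subtype.ext h), fun x hx => ?_⟩
  by_cases hx0 : x = 0
  · exact Or.inl hx0
  · right
    have h3 := h2 ⟨x, hx⟩ (fun h => hx0 (congrArg Subtype.val h))
    exact congrArg Subtype.val h3

/-- **The five vectors.** -/
theorem five (p : Ω) {m : V} (hm : m ∈ G.F p) (hm0 : m ≠ 0) : ∃ w : Fin 5 → V, Function.Injective w ∧ w 0 = m ∧
    Set.range w = MulAction.orbit Y m ∧ w 0 + w 1 + w 2 + w 3 + w 4 = 0 ∧
    (∀ g : Y, ∃ σ : Equiv.Perm (Fin 5), ∀ i, g • w i = w (σ i)) ∧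
    ∀ σ ∈ alternatingGroup (Fin 5), ∃ g : Y, ∀ i, g • w i = w (σ i) := by
  classical
  choose w hwF hw0 hw using fun p => G.exists_w p
  have hmp : m = w p := (hw p m hm).resolve_left hm0
  subst hmp
  have hsm : ∀ (g : Y) (r : Ω), g • w r = w (g • r) := fun g r =>
    (hw (g • r) _ (G.smul_memF (hwF r))).resolve_left fun h => hw0 r ((smul_eq_zero_iff_eq g).1 h)
  have hwi : Function.Injective w := by
    intro r s hrs
    by_contra hne
    refine hw0 r (G.disj hne (hwF r) ?_)
    rw [hrs]
    exact G.FE (hwF s)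
  obtain ⟨q, hq⟩ := G.P.ne p
  have hB4 : Nat.card (G.B p) = 4 := G.card_B p
  let e : Fin 4 ≃ G.B p := (Finite.equivFinOfCardEq hB4).symm
  let o : Fin 5 → Ω := Fin.cons p fun i => (e i : Y) • q
  have ho0 : o 0 = p := rfl
  have hos : ∀ i : Fin 4, o i.succ = (e i : Y) • q := fun i => rfl
  have hmv : ∀ b ∈ G.B p, b • q ≠ p := by
    intro b hb h
    have h1 : b • p = p := G.fix hb
    exact hq (smul_left_cancel b (h.trans h1.symm))
  have hfr : ∀ b ∈ G.B p, ∀ i, b • o i = o i → b = 1 ∨ i = 0 := by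
    intro b hb i hi
    by_cases h1 : b = 1
    · exact Or.inl h1
    · right
      induction i using Fin.cases with
      | zero => rfl
      | succ i =>
        exfalso
        rw [hos] at hi
        exact hmv _ (e i).2 (G.free hb h1 hi)
  have hoi : Function.Injective o := by
    intro i j hij
    induction i using Fin.cases with
    | zero =>
      induction j using Fin.cases with
      | zero => rfl
      | succ j =>
        rw [ho0, hos] at hij
        exact absurd hij.symm (hmv _ (e j).2)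
    | succ i =>
      induction j using Fin.cases with
      | zero =>
        rw [ho0, hos] at hij
        exact absurd hij (hmv _ (e i).2)
      | succ j =>
        rw [hos, hos] at hij
        have h1 : ((e j : Y)⁻¹ * (e i : Y)) • q = q := by rw [mul_smul, hij, inv_smul_smul]
        have h2 : (e j : Y)⁻¹ * (e i : Y) = 1 := by
          by_contra hne
          exact hq (G.free ((G.B p).mul_mem ((G.B p).inv_mem (e j).2) (e i).2) hne h1)
        rw [inv_mul_eq_one] at h2
        rw [e.injective (Subtype.ext h2)]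
  have hosur : Function.Surjective o := by
    intro r
    by_cases hr : r = p
    · exact ⟨0, hr.symm⟩
    · obtain ⟨b, hb, h1⟩ := G.exists_B hq hr
      refine ⟨(e.symm ⟨b, hb⟩).succ, ?_⟩
      rw [hos, e.apply_symm_apply]
      exact h1
  have hwo : Function.Injective (w ∘ o) := hwi.comp hoi
  have hrange : Set.range (w ∘ o) = MulAction.orbit Y (w p) := by
    ext v
    constructor
    · rintro ⟨i, rfl⟩
      obtain ⟨g, hg⟩ := G.P.tr p (o i)
      refine ⟨g, ?_⟩
      change g • w p = w (o i)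
      rw [hsm, hg]
    · rintro ⟨g, rfl⟩
      obtain ⟨i, hi⟩ := hosur (g • p)
      refine ⟨i, ?_⟩
      change w (o i) = g • w p
      rw [hi, hsm]
  have hall := alt_of hwo hB4 (G.fr p).sq
    (fun b hb => by
      change b • w (o 0) = w (o 0)
      rw [ho0, hsm, G.fix hb])
    (fun b hb i hi => hfr b hb i (hwi (by
      change b • w (o i) = w (o i) at hi
      rw [← hsm]
      exact hi))) hrange
  refine ⟨w ∘ o, hwo, rfl, hrange, ?_, hall.1, hall.2⟩
  -- the sum
  set s : V := ∑ i, (w ∘ o) i with hs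
  have h1 : ∀ g : Y, g • s = s := by
    intro g
    obtain ⟨σ, hσ⟩ := hall.1 g
    rw [hs, Finset.smul_sum]
    simp only [hσ]
    exact Equiv.sum_comp σ (w ∘ o)
  have h2 : s = 0 := by
    refine G.disj hq.symm ((G.fr p).fixF fun t _ => h1 t) ?_
    exact G.FE ((G.fr q).fixF fun t _ => h1 t)
  rw [Fin.sum_univ_five] at hs
  rw [← hs, h2]

end Geo

variable {G : Type u} [Group G] [Finite G] {S : Sylow 2 G} {P : Subgroup G} {Y V : Type u} [Group Y] [Finite Y]
  [AddCommGroup V] [Finite V] [DistribMulAction Y V] {T : Sylow 2 Y} {Mx : Subgroup Y}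

/-- **THE END of (BT), `|V / E| = 2`**: (+) for one frame implies type `Minus2`. -/
theorem minus2 (R : Rep (S : Subgroup G) P (zl (S : Subgroup G) P) Y V T Mx) {E F : AddSubgroup V}
    {B : Subgroup Y} (h : Fra T Mx E F B) (hi : E.index = 2) : Ty (S : Subgroup G) P := by
  have hT : (T : Subgroup Y) ≠ ⊥ := by
    intro h1
    obtain ⟨e, he, hf⟩ := h.ne'
    refine hf (h.CB e fun b hb => ?_)
    have h3 : b ∈ (T : Subgroup Y) := h.BT hb
    rw [h1, Subgroup.mem_bot] at h3
    rw [h3, one_smul]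
  have Pt := pts_of R.core R.TM R.Mne R.max hT
  have at1 : ∀ T' : Sylow 2 Y, (T' : Subgroup Y) ≤ Mx → At T' ((1 : Y) : Y ⧸ Mx) := fun T' hT' t ht => by
    rw [MulAction.Quotient.smul_coe, smul_eq_mul, mul_one, eq_comm, QuotientGroup.eq, inv_one, one_mul]
    exact hT' ht
  have hfr : Fr 2 T ((1 : Y) : Y ⧸ Mx) E F B :=
    { at' := at1 T R.TM
      ind := hi
      BT := h.BT
      comm := h.comm
      sq := h.sq
      FE := h.FE
      VB := h.VB
      EB := h.EB
      FB := h.FB
      CB := h.CB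
      inj := h.inj
      surj := h.surj
      ne := h.ne
      ne' := h.ne'
      plus := fun T' q hq hv => Pt.one T' q _ hq (at1 T' (h.plus T' hv)) }
  obtain ⟨Ge⟩ := exists_geo Pt R.two R.faith hfr
  have hF : F = Ge.F ((1 : Y) : Y ⧸ Mx) := Ge.uF hfr
  obtain ⟨m, hm, hm0, hmu⟩ := Ge.exists_w ((1 : Y) : Y ⧸ Mx)
  -- `Z(S) = ⟨z⟩`
  have key : ∀ x ∈ zc (S : Subgroup G), x = 1 ∨ x = R.el m := by
    intro x hx
    obtain ⟨v, rfl⟩ := R.surj x (MinSimple.VModule.zc_le_zl _ _ hx)
    have hv : v ∈ F := by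
      refine hfr.fixF fun t ht => ?_
      obtain ⟨s, hs, rfl⟩ := (R.mem_T t).1 ht
      apply R.inj
      rw [R.smul]
      rw [(MinSimple.VModule.mem_zc.1 hx).2.1 s hs, mul_inv_cancel_right]
    rw [hF] at hv
    rcases hmu v hv with rfl | rfl
    · left
      exact R.el_zero
    · exact Or.inr rfl
  have hz : TwoG.Zd S (R.el m) := by
    have hS : (S : Subgroup G) ≠ ⊥ := by
      intro h1
      apply hT
      rw [eq_bot_iff]
      intro t ht
      obtain ⟨s, hs, rfl⟩ := (R.mem_T t).1 ht
      rw [h1, Subgroup.mem_bot] at hs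
      have h2 : s = 1 := Subtype.ext hs
      rw [h2, map_one]
      exact Subgroup.one_mem _
    refine ⟨?_, fun h1 => hm0 (R.el_eq_one.1 h1), key⟩
    obtain ⟨x, hx, hx1⟩ : ∃ x ∈ zc (S : Subgroup G), x ≠ 1 := by
      by_contra hcon
      push Not at hcon
      exact MinSimple.Basic.zc_ne_bot S.isPGroup' hS ((eq_bot_iff_forall _).2 hcon)
    rwa [← (key x hx).resolve_left hx1]
  obtain ⟨w, w1, w2, w3, w4, w5, w6⟩ := Ge.five _ hm hm0
  exact Ty.minus2 _ (R.minus2 hz rfl w1 w2 w3 w4 w5 w6)

end Cfsg.Agent.Omega.NO1.HE
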